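import Cfsg.Agent.LAE62.Stab
import Cfsg.Agent.LAE62.SL2Three
import Cfsg.Agent.LocalEven62.Frattini

/-!
The centralizer of the module of a Baumann block: the easy cases and the data of the exceptional case.
-/

set_option autoImplicit false
set_option linter.unusedSectionVars false
set_option linter.unusedVariables false
set_option linter.style.haveILetI false

open Subgroup Cfsg
open scoped commutatorElement MatrixGroups
open Cfsg.Agent.PushUp62 (centMod commutator_mem_symm conj_commutator le_normalizer_of_conj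
  commutator_mul_left commutator_mul_right mem_sup_of_le_normalizer conj_mem_of_le_normalizer')

namespace Cfsg.Agent.LAE62

variable {G : Type*} [Group G]

/-- The module of a block. -/
abbrev modX (p : ℕ) (E : Subgroup G) : Subgroup G := ⁅omegaOneCenter p (pCoreOf p E), E⁆

theorem mem_normalizer_commutator [Finite G] {g : G} {A B : Subgroup G}
    (hA : g ∈ normalizer (A : Set G)) (hB : g ∈ normalizer (B : Set G)) :
    g ∈ normalizer ((⁅A, B⁆ : Subgroup G) : Set G) := by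
  rw [LAE65.mem_normalizer_iff_map] at hA hB ⊢
  rw [map_commutator, hA, hB]

theorem normalizer_le_normalizer_modX [Finite G] (p : ℕ) (E : Subgroup G) :
    normalizer (E : Set G) ≤ normalizer (modX p E : Set G) := fun g hg =>
  mem_normalizer_commutator (LAE65.Block.normalizer_le_normalizer_omegaOneCenter _
    (LocalEven62.normalizer_le_normalizer_pCoreOf E hg)) hg

theorem centralizer_le_normalizer_of_comm_le [Finite G] {p : ℕ} [Fact p.Prime] {T : Sylow p G}
    {E : Subgroup G} (hG : centralizer (pCore p G : Set G) ≤ pCore p G)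
    (hE : IsBaumannBlock p (T : Subgroup G) E) (h : ⁅pCore p G, E⁆ ≤ modX p E) :
    centralizer (modX p E : Set G) ≤ normalizer (E : Set G) := by
  have hXP : modX p E ≤ pCore p G :=
    (LAE65.Block.module_le hG hE).trans (LAE65.Block.omegaOneCenter_le _)
  have hB := LAE65.Block.le_normalizer_of_commutator_eq hE.2.1
  intro c hc
  refine mem_normalizer_of_comm hG hE (l := [pCore p G, modX p E, ⊥]) ?_ rfl rfl ?_ ?_ fun e he =>
    ⟨?_, ?_, trivial⟩
  · simp [hXP]
  · simp only [List.forall_mem_cons, List.not_mem_nil, false_imp_iff, implies_true, and_true]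
    exact ⟨LAE65.Block.le_normalizer_pCore E, le_normalizer.trans (normalizer_le_normalizer_modX p E),
      by rw [normalizer_bot_eq_top]; exact le_top⟩
  · simp only [List.forall_mem_cons, List.not_mem_nil, false_imp_iff, implies_true, and_true]
    exact ⟨LAE65.Block.le_normalizer_pCore _, hB.trans (normalizer_le_normalizer_modX p E),
      by rw [normalizer_bot_eq_top]; exact le_top⟩
  · exact comm_mem_centMod (LAE65.Block.le_normalizer_pCore ⊤ (mem_top c))
      (centralizer_le_normalizer _ hc)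
      ⟨(le_normalizer.trans (normalizer_le_normalizer_modX p E)) he, fun x hx =>
        commutator_mem_symm (h (commutator_mem_commutator hx he))⟩
  · refine comm_mem_centMod' ((le_normalizer.trans (normalizer_le_normalizer_modX p E)) he)
      (by rw [normalizer_bot_eq_top]; trivial) ⟨by rw [normalizer_bot_eq_top]; trivial, fun x hx => ?_⟩
    rw [mem_bot, commutatorElement_eq_one_iff_mul_comm]
    exact (mem_centralizer_iff.1 hc x hx).symm

/-- The data of an exceptional block. -/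
structure Exc [Finite G] (T : Sylow 3 G) (E : Subgroup G) (F : Type) [Field F] where
  hG : centralizer (pCore 3 G : Set G) ≤ pCore 3 G
  hE : IsBaumannBlock 3 (T : Subgroup G) E
  h3 : (3 : F) = 0
  /-- the action on `X` -/
  r : G → SL(2, F)
  r_mul : ∀ {a b}, a ∈ E → b ∈ E → r (a * b) = r a * r b
  r_mem : ∀ {a}, a ∈ E → r a ∈ commutator SL(2, F)
  r_surj : ∀ g ∈ commutator SL(2, F), ∃ a ∈ E, r a = g
  r_ker : ∀ {a}, a ∈ E → (r a = 1 ↔ a ∈ pCoreOf 3 E)
  /-- the action on `Q/W` -/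
  s : G → SL(2, F)
  s_mul : ∀ {a b}, a ∈ E → b ∈ E → s (a * b) = s a * s b
  s_mem : ∀ {a}, a ∈ E → s a ∈ commutator SL(2, F)
  s_surj : ∀ g ∈ commutator SL(2, F), ∃ a ∈ E, s a = g
  s_ker : ∀ {a}, a ∈ E → (s a = 1 ↔ a ∈ pCoreOf 3 E)
  /-- the coordinates of `X` -/
  xc : G → (Fin 2 → F)
  xc_mul : ∀ {x y}, x ∈ modX 3 E → y ∈ modX 3 E → xc (x * y) = xc x + xc y
  xc_surj : ∀ v, ∃ x ∈ modX 3 E, xc x = v
  xc_inj : ∀ {x}, x ∈ modX 3 E → xc x = 0 → x = 1
  xc_conj : ∀ {e x}, e ∈ E → x ∈ modX 3 E → xc (e * x * e⁻¹) = act (r e) (xc x)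
  /-- the coordinates of `Q/W` -/
  qc : G → (Fin 2 → F)
  qc_mul : ∀ {x y}, x ∈ pCoreOf 3 E → y ∈ pCoreOf 3 E → qc (x * y) = qc x + qc y
  qc_surj : ∀ v, ∃ x ∈ pCoreOf 3 E, qc x = v
  qc_ker : ∀ {x}, x ∈ pCoreOf 3 E → (qc x = 0 ↔ x ∈ omegaOneCenter 3 (pCoreOf 3 E))
  qc_conj : ∀ {e x}, e ∈ E → x ∈ pCoreOf 3 E → qc (e * x * e⁻¹) = act (s e) (qc x)
  /-- the central involution -/
  τ : G
  τ_mem : τ ∈ E
  τ_sq : τ * τ = 1
  r_τ : r τ = -1
  s_τ : s τ = -1
  τ_X : ∀ {x}, x ∈ modX 3 E → τ * x * τ = x⁻¹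
  W_eq : omegaOneCenter 3 (pCoreOf 3 E) ≤
    modX 3 E ⊔ (omegaOneCenter 3 (pCoreOf 3 E) ⊓ centralizer (E : Set G))
  W_le : omegaOneCenter 3 (pCoreOf 3 E) ≤ omegaOneCenter 3 (pCore 3 G)
  V_comm : ⁅omegaOneCenter 3 (pCore 3 G), E⁆ ≤ modX 3 E
  Q_le : pCoreOf 3 E ≤ pCore 3 G
  P_comm : ∀ {u e}, u ∈ pCore 3 G → e ∈ E → ⁅u, e⁆ ∈ pCoreOf 3 E
  P_Q : ∀ {u q}, u ∈ pCore 3 G → q ∈ pCoreOf 3 E → ⁅u, q⁆ ∈ omegaOneCenter 3 (pCoreOf 3 E)
  der : ⁅pCoreOf 3 E, pCoreOf 3 E⁆ = omegaOneCenter 3 (pCoreOf 3 E) ⊓ centralizer (E : Set G)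
  cube : ∀ {q}, q ∈ pCoreOf 3 E → q ^ 3 ∈ omegaOneCenter 3 (pCoreOf 3 E) ⊓ centralizer (E : Set G)
  /-- the commutator pairing -/
  κ : F → G
  κ_add : ∀ a b, κ (a + b) = κ a * κ b
  κ_mem : ∀ a, κ a ∈ omegaOneCenter 3 (pCoreOf 3 E) ⊓ centralizer (E : Set G)
  κ_inj : ∀ {a}, κ a = 1 → a = 0
  pairing : ∀ {q q'}, q ∈ pCoreOf 3 E → q' ∈ pCoreOf 3 E → ⁅q, q'⁆ = κ (det2 (qc q) (qc q'))
  nonquad : ∀ b : G, b ∈ baumannSubgroupOf 3 (T : Subgroup G) →
    b ∉ centralizer (omegaOneCenter 3 (pCoreOf 3 E) : Set G) →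
      ¬ ⁅⁅pCoreOf 3 E, zpowers b⁆, zpowers b⁆ ≤ E ⊓ centralizer (E : Set G)
  ZE : E ⊓ centralizer (E : Set G) = omegaOneCenter 3 (pCoreOf 3 E) ⊓ centralizer (E : Set G)

open scoped Classical in
/-- A partial homomorphism as a total function. -/
noncomputable def extend {M : Type*} [One M] {A : Subgroup G} (f : ↥A → M) (x : G) : M :=
  if h : x ∈ A then f ⟨x, h⟩ else 1

theorem extend_apply {M : Type*} [One M] {A : Subgroup G} (f : ↥A → M) {x : G} (h : x ∈ A) :
    extend f x = f ⟨x, h⟩ := dif_pos h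

theorem act_eq_of_forall {F : Type} [Field F] {g : SL(2, F)} (h : ∀ v, act g v = v) : g = 1 := by
  have h0 := h ![1, 0]
  have h1 := h ![0, 1]
  apply Subtype.ext
  ext i j
  have a0 := congrFun h0 i; have a1 := congrFun h1 i
  simp [act_apply] at a0 a1
  fin_cases i <;> fin_cases j <;> simp_all

theorem center_of_self_commutator [Finite G] {p : ℕ} [Fact p.Prime] {P A W : Subgroup G}
    (hP : IsPGroup p ↥P) (hW : W ≤ P) (hWn : P ≤ normalizer (W : Set G))
    (h : A ≤ ⁅P, A⁆ ⊔ W) (hA : A ≤ P) : A ≤ W := by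
  have key : ∀ k, A ≤ P.lowerCentralSeries k ⊔ W := by
    intro k
    induction k with
    | zero => exact hA.trans le_sup_left
    | succ k ih =>
      have hn : P ≤ normalizer ((P.lowerCentralSeries (k + 1) ⊔ W : Subgroup G) : Set G) :=
        LocalEven62.le_normalizer_sup (P.self_le_normalizer_lowerCentralSeries (k + 1)) hWn
      refine h.trans (sup_le ?_ le_sup_right)
      refine commutator_le.2 fun u hu a ha => commutator_mem_symm ?_
      have hle : P.lowerCentralSeries k ⊔ W ≤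
          centMod P (P.lowerCentralSeries (k + 1) ⊔ W) := by
        refine sup_le (fun l hl => ⟨hn (P.lowerCentralSeries_antitone (Nat.zero_le k) hl), fun x hx =>
          mem_sup_left (commutator_mem_commutator hl hx)⟩)
          (fun w hw => ⟨hn (hW hw), fun x hx => mem_sup_right ?_⟩)
        rw [commutatorElement_def, mul_assoc, mul_assoc]
        exact W.mul_mem hw (by simpa [mul_assoc] using conj_mem_of_le_normalizer' hWn hx (W.inv_mem hw))
      exact (hle (ih ha)).2 u hu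
  haveI : Group.IsNilpotent ↥P := hP.isNilpotent
  have := key (Group.nilpotencyClass ↥P)
  rwa [lowerCentralSeries_eq_bot_of_nilpotencyClass_le le_rfl, bot_sup_eq] at this

set_option maxHeartbeats 1000000 in
/-- The centralizer of the module normalises the block, except possibly in the exceptional case. -/
theorem normalizes_or_exc [Finite G] {p : ℕ} [hp : Fact p.Prime] (T : Sylow p G) {E : Subgroup G}
    (hG : centralizer (pCore p G : Set G) ≤ pCore p G)
    (hE : IsBaumannBlock p (T : Subgroup G) E) :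
    centralizer (modX p E : Set G) ≤ normalizer (E : Set G) ∨
      ∃ (h : p = 3) (F : Type) (_ : Field F), Nonempty (Exc (h ▸ T) E F) := by
  classical
  have hfacts := LAE65.Block.moduleFacts hG hE
  set P := pCore p G with hPdef
  set V := omegaOneCenter p P with hVdef
  set Q := pCoreOf p E with hQdef
  set W := omegaOneCenter p Q with hWdef
  have hXeq : modX p E = ⁅V, E⁆ := hfacts.eq
  have hPE := LAE65.Block.core_le_normalizer (T := T) hE
  have hEP : E ≤ normalizer (P : Set G) := LAE65.Block.le_normalizer_pCore E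
  have hQE : Q ≤ E := LocalEven64.pCoreOf_le E
  have hB := LAE65.Block.le_normalizer_of_commutator_eq hE.2.1
  have hPEQ : ⁅P, E⁆ ≤ P ⊓ E := le_inf (le_normalizer_iff_commutator_le_left.1 hEP)
    (le_normalizer_iff_commutator_le_right.1 hPE)
  have hPEQ' : ⁅P, E⁆ ≤ Q := LocalEven64.le_pCoreOf (hPEQ.trans inf_le_right)
    (normalizer_commutator_ge_right _ _) (Thompson.isPGroup_pCore.to_le (hPEQ.trans inf_le_left))
  have hgen : Q = W → centralizer (modX p E : Set G) ≤ normalizer (E : Set G) := fun hQW =>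
    centralizer_le_normalizer_of_comm_le hG hE (hPEQ'.trans (hE.2.2.1.ge.trans
      (commutator_mono hQW.le le_rfl)))
  rcases hE.2.2.2.2 with ⟨F, _, _, n, hn, hiso, hactW, hq | ⟨h3, hactQ, hder, hfr, hZE, hcard, hnq⟩⟩ |
    ⟨-, m, -, -, hq⟩
  · exact Or.inl (hgen hq)
  swap
  · exact Or.inl (hgen hq)
  subst h3
  obtain ⟨iso⟩ := hiso
  set Z := W ⊓ centralizer (E : Set G) with hZdef
  set X := modX 3 E with hXdef
  have hWQ : W ≤ Q := LAE65.Block.omegaOneCenter_le Q
  have hWc : ∀ w ∈ W, ∀ q ∈ Q, q * w = w * q := fun w hw q hq =>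
    mem_centralizer_iff.1 (LAE65.Block.omegaOneCenter_le_centralizer Q hw) q hq
  have hWel : IsElementaryAbelian 3 W := LAE65.Block.isElementaryAbelian_omegaOneCenter Q
  have hWab : ∀ w ∈ W, ∀ w' ∈ W, w * w' = w' * w := fun w hw w' hw' => hWc w' hw' w (hWQ hw)
  have hnQ : normalizer (E : Set G) ≤ normalizer (Q : Set G) :=
    LocalEven62.normalizer_le_normalizer_pCoreOf E
  have hnW : normalizer (E : Set G) ≤ normalizer (W : Set G) :=
    hnQ.trans (LAE65.Block.normalizer_le_normalizer_omegaOneCenter _)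
  have hXW : X ≤ W := le_normalizer_iff_commutator_le_left.1 (le_normalizer.trans hnW)
  have hXV : X ≤ V := LAE65.Block.module_le hG hE
  have hWXZ : W ≤ X ⊔ Z := by
    rw [hXeq]; exact hfacts.sup_eq
  have hdecW : ∀ w ∈ W, ∃ x ∈ X, ∃ z ∈ Z, w = x * z := fun w hw =>
    mem_sup_of_le_normalizer (fun x hx => by
      refine LocalEven62.mem_normalizer_of_conj_mem fun z hz => ?_
      rw [hWab x (hXW hx) z hz.1, mul_inv_cancel_right]; exact hz) (hWXZ hw)
  -- `P` centralises `Z` once it centralises `Q/W`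
  have hcZ : (∀ u ∈ P, ∀ q ∈ Q, ⁅u, q⁆ ∈ W) → ∀ u ∈ P, ∀ z ∈ Z, u * z = z * u := by
    intro hPQ u hu z hz
    rw [← hder] at hz
    have hmul : ∀ q ∈ Q, ∃ w ∈ W, u * q * u⁻¹ = w * q := fun q hq =>
      ⟨⁅u, q⁆, hPQ u hu q hq, by rw [commutatorElement_def]; group⟩
    have hle : ⁅Q, Q⁆ ≤ centralizer ({u} : Set G) := commutator_le.2 fun q hq q' hq' => by
      obtain ⟨w, hw, e⟩ := hmul q hq
      obtain ⟨w', hw', e'⟩ := hmul q' hq'
      have hc : u * ⁅q, q'⁆ * u⁻¹ = ⁅q, q'⁆ := by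
        rw [conj_commutator, e, e', commutator_mul_left,
          commutatorElement_eq_one_iff_mul_comm.2 (hWc w hw _ (Q.mul_mem (hWQ hw') hq')).symm, mul_one,
          commutator_mul_right, commutatorElement_eq_one_iff_mul_comm.2 (hWc w' hw' q hq), one_mul]
        have hq'' : ⁅q, q'⁆ ∈ Q := Q.mul_mem (Q.mul_mem (Q.mul_mem hq hq') (Q.inv_mem hq)) (Q.inv_mem hq')
        rw [← hWc w' hw' _ hq'', mul_inv_cancel_right, ← hWc w hw _ hq'', mul_inv_cancel_right]
      rw [mem_centralizer_singleton_iff]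
      conv_lhs => rw [← hc]
      group
    exact (mem_centralizer_singleton_iff.1 (hle hz)).symm
  have hVmem : ∀ x ∈ P, (∀ u ∈ P, u * x = x * u) → x ^ 3 = 1 → x ∈ V := fun x hx hc hx3 =>
    Thompson.mem_omegaOne ⟨hx, mem_centralizer_iff.2 hc⟩ hx3
  have hXc : ∀ x ∈ X, ∀ u ∈ P, u * x = x * u := fun x hx u hu =>
    mem_centralizer_iff.1 (LAE65.Block.omegaOneCenter_le_centralizer P (hXV hx)) u hu
  by_cases hcase : P ⊓ Q ≤ W
  · -- `P` meets the block only in `W`
    left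
    have hPQ : ∀ u ∈ P, ∀ q ∈ Q, ⁅u, q⁆ ∈ W := fun u hu q hq => hcase
      ⟨(le_normalizer_iff_commutator_le_left.1 (hQE.trans hEP)) (commutator_mem_commutator hu hq),
        (le_normalizer_iff_commutator_le_right.1 (hPE.trans hnQ)) (commutator_mem_commutator hu hq)⟩
    have hPV : ⁅P, E⁆ ≤ V := fun a ha => by
      have haP := (hPEQ ha).1
      have haW := hcase ⟨haP, hPEQ' ha⟩
      obtain ⟨x, hx, z, hz, rfl⟩ := hdecW a haW
      refine hVmem _ haP (fun u hu => ?_) (hWel.2 _ haW)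
      rw [← mul_assoc, hXc x hx u hu, mul_assoc, hcZ hPQ u hu z hz, mul_assoc]
    have hVP : V ≤ P := LAE65.Block.omegaOneCenter_le P
    have hVn : ∀ H : Subgroup G, H ≤ normalizer (V : Set G) :=
      LAE65.Block.le_normalizer_omegaPCore
    intro c hc
    refine mem_normalizer_of_comm hG hE (l := [P, V, X, ⊥]) ?_ rfl rfl ?_ ?_ fun e he =>
      ⟨?_, ?_, ?_, trivial⟩
    · simp [← hPdef, hVP, hXV.trans hVP]
    · simp only [List.forall_mem_cons, List.not_mem_nil, false_imp_iff, implies_true, and_true]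
      exact ⟨hEP, hVn E, le_normalizer.trans (normalizer_le_normalizer_modX 3 E),
        by rw [normalizer_bot_eq_top]; exact le_top⟩
    · simp only [List.forall_mem_cons, List.not_mem_nil, false_imp_iff, implies_true, and_true]
      exact ⟨LAE65.Block.le_normalizer_pCore _, hVn _, hB.trans (normalizer_le_normalizer_modX 3 E),
        by rw [normalizer_bot_eq_top]; exact le_top⟩
    · exact comm_mem_centMod (LAE65.Block.le_normalizer_pCore ⊤ (mem_top c)) (hVn ⊤ (mem_top c))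
        ⟨hVn E he, fun x hx => commutator_mem_symm (hPV (commutator_mem_commutator hx he))⟩
    · exact comm_mem_centMod (hVn ⊤ (mem_top c)) (centralizer_le_normalizer _ hc)
        ⟨(le_normalizer.trans (normalizer_le_normalizer_modX 3 E)) he, fun x hx => commutator_mem_symm
          (hXeq.ge (commutator_mem_commutator hx he))⟩
    · refine comm_mem_centMod' ((le_normalizer.trans (normalizer_le_normalizer_modX 3 E)) he)
        (by rw [normalizer_bot_eq_top]; trivial) ⟨by rw [normalizer_bot_eq_top]; trivial, fun x hx => ?_⟩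
      rw [mem_bot, commutatorElement_eq_one_iff_mul_comm]
      exact (mem_centralizer_iff.1 hc x hx).symm
  -- the exceptional case
  right
  refine ⟨rfl, F, inferInstance, ?_⟩
  have hQnab : ¬ Q ≤ W := fun h => by
    have : ⁅Q, Q⁆ = ⊥ := le_bot_iff.1 (commutator_le.2 fun a ha b hb => mem_bot.2
      (commutatorElement_eq_one_iff_mul_comm.2 (hWc b (h hb) a ha)))
    rw [hder, ← hZE] at this
    rw [this, card_bot] at hcard
    have hn0 : n = 0 := by
      by_contra hn0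
      exact absurd hcard.symm (Nat.one_lt_pow hn0 (by norm_num)).ne'
    rw [hn0, pow_zero] at hn
    exact absurd hn Fintype.one_lt_card.ne'
  have hPQn : P ⊓ Q ≤ normalizer (W : Set G) := inf_le_right.trans fun q hq => hnW (le_normalizer (hQE hq))
  have hEPQ : E ≤ normalizer ((P ⊓ Q : Subgroup G) : Set G) :=
    LocalEven62.le_normalizer_inf hEP (le_normalizer.trans hnQ)
  have hsup : Q ≤ (P ⊓ Q) ⊔ W := LAE65.Block.sl2_irred hactQ inf_le_right hEPQ hcase
  have hZP : Z ≤ P := by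
    rw [← hder]
    refine commutator_le.2 fun a ha b hb => ?_
    obtain ⟨a', ha', w, hw, rfl⟩ := mem_sup_of_le_normalizer hPQn (hsup ha)
    obtain ⟨b', hb', w', hw', rfl⟩ := mem_sup_of_le_normalizer hPQn (hsup hb)
    rw [commutator_mul_left, commutatorElement_eq_one_iff_mul_comm.2
      (hWc w hw _ (Q.mul_mem hb'.2 (hWQ hw'))).symm, mul_one, mul_inv_cancel, one_mul,
      commutator_mul_right, commutatorElement_eq_one_iff_mul_comm.2 (hWc w' hw' a' ha'.2), mul_one,
      mul_inv_cancel, mul_one]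
    exact P.mul_mem (P.mul_mem (P.mul_mem ha'.1 hb'.1) (P.inv_mem ha'.1)) (P.inv_mem hb'.1)
  have hWP : W ≤ P := hWXZ.trans (sup_le (hXV.trans (LAE65.Block.omegaOneCenter_le P)) hZP)
  have hQP : Q ≤ P := hsup.trans (sup_le inf_le_left hWP)
  have hPQ' : ⁅P, Q⁆ ⊔ W ≤ Q :=
    sup_le (le_normalizer_iff_commutator_le_right.1 (hPE.trans hnQ)) hWQ
  have hPQ : ⁅P, Q⁆ ≤ W := by
    by_contra hcon
    have hX' : ¬ ⁅P, Q⁆ ⊔ W ≤ W := fun h => hcon (le_sup_left.trans h)
    have hY := LAE65.Block.sl2_irred hactQ hPQ' (LocalEven62.le_normalizer_sup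
      (fun e he => mem_normalizer_commutator (hEP he) (hnQ (le_normalizer he)))
      (le_normalizer.trans hnW)) hX'
    rw [sup_assoc, sup_idem] at hY
    exact hQnab (center_of_self_commutator Thompson.isPGroup_pCore hWP (hPE.trans hnW) hY hQP)
  have hPQm : ∀ u ∈ P, ∀ q ∈ Q, ⁅u, q⁆ ∈ W := fun u hu q hq => hPQ (commutator_mem_commutator hu hq)
  have hWV : W ≤ V := fun w hw => by
    obtain ⟨x, hx, z, hz, rfl⟩ := hdecW w hw
    refine hVmem _ (hWP hw) (fun u hu => ?_) (hWel.2 _ hw)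
    rw [← mul_assoc, hXc x hx u hu, mul_assoc, hcZ hPQm u hu z hz, mul_assoc]
  -- the representations
  obtain ⟨-, -, rW, ψW, hrW, hψW, hkW, heqW⟩ := hactW
  obtain ⟨-, -, rQ, ψQ, hrQ, hψQ, hkQ, heqQ⟩ := hactQ
  have h3F : (3 : F) = 0 := by
    haveI : CharP F 3 := charP_of_card_eq_prime_pow hn
    exact_mod_cast CharP.cast_eq_zero F 3
  let xc : G → (Fin 2 → F) := fun x => Multiplicative.toAdd (extend (fun w : ↥W => ψW w) x)
  let qc : G → (Fin 2 → F) := fun x => Multiplicative.toAdd (extend (fun w : ↥Q => ψQ w) x)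
  let r : G → SL(2, F) := extend (fun e : ↥E => rW e)
  let s : G → SL(2, F) := extend (fun e : ↥E => rQ e)
  have hxc : ∀ {x} (h : x ∈ W), xc x = Multiplicative.toAdd (ψW ⟨x, h⟩) := fun h =>
    congrArg Multiplicative.toAdd (extend_apply _ h)
  have hqc : ∀ {x} (h : x ∈ Q), qc x = Multiplicative.toAdd (ψQ ⟨x, h⟩) := fun h =>
    congrArg Multiplicative.toAdd (extend_apply _ h)
  have hr : ∀ {e} (h : e ∈ E), r e = rW ⟨e, h⟩ := fun h => extend_apply _ h
  have hs : ∀ {e} (h : e ∈ E), s e = rQ ⟨e, h⟩ := fun h => extend_apply _ h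
  have xmul : ∀ {x y}, x ∈ W → y ∈ W → xc (x * y) = xc x + xc y := fun {x y} hx hy => by
    rw [hxc hx, hxc hy, hxc (W.mul_mem hx hy), ← toAdd_mul, ← map_mul]; rfl
  have qmul : ∀ {x y}, x ∈ Q → y ∈ Q → qc (x * y) = qc x + qc y := fun {x y} hx hy => by
    rw [hqc hx, hqc hy, hqc (Q.mul_mem hx hy), ← toAdd_mul, ← map_mul]; rfl
  have xker : ∀ {x}, x ∈ W → (xc x = 0 ↔ x ∈ Z) := fun {x} hx => by
    rw [hxc hx, ← toAdd_one, Multiplicative.toAdd.injective.eq_iff]; exact hkW _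
  have qker : ∀ {x}, x ∈ Q → (qc x = 0 ↔ x ∈ W) := fun {x} hx => by
    rw [hqc hx, ← toAdd_one, Multiplicative.toAdd.injective.eq_iff]; exact hkQ _
  have xconj : ∀ {e x}, e ∈ E → x ∈ W → xc (e * x * e⁻¹) = act (r e) (xc x) := fun {e x} he hx => by
    obtain ⟨w, hw, hw'⟩ := heqW ⟨e, he⟩ ⟨x, hx⟩
    rw [hxc hx, hr he, ← show (w : G) = e * x * e⁻¹ from hw, hxc w.2]
    exact hw'
  have qconj : ∀ {e x}, e ∈ E → x ∈ Q → qc (e * x * e⁻¹) = act (s e) (qc x) := fun {e x} he hx => by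
    obtain ⟨w, hw, hw'⟩ := heqQ ⟨e, he⟩ ⟨x, hx⟩
    rw [hqc hx, hs he, ← show (w : G) = e * x * e⁻¹ from hw, hqc w.2]
    exact hw'
  have xsurj : ∀ v, ∃ x ∈ W, xc x = v := fun v => by
    obtain ⟨w, hw⟩ := hψW (Multiplicative.ofAdd v)
    exact ⟨w, w.2, by rw [hxc w.2, hw, toAdd_ofAdd]⟩
  have qsurj : ∀ v, ∃ x ∈ Q, qc x = v := fun v => by
    obtain ⟨w, hw⟩ := hψQ (Multiplicative.ofAdd v)
    exact ⟨w, w.2, by rw [hqc w.2, hw, toAdd_ofAdd]⟩
  -- kernels
  have hQsub : Q.subgroupOf E = pCore 3 ↥E := comap_map_eq_self_of_injective (subtype_injective E) _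
  have hker : ∀ (f : ↥E →* SL(2, F)), f.range = commutator SL(2, F) →
      (∀ q : ↥E, (q : G) ∈ Q → f q = 1) → ∀ e : ↥E, f e = 1 ↔ (e : G) ∈ Q := by
    intro f hf htriv e
    refine ⟨fun he => ?_, htriv e⟩
    have hle : pCore 3 ↥E ≤ f.ker := fun q hq => htriv q (mem_map_of_mem E.subtype hq)
    have h1 : (pCore 3 ↥E).index = Nat.card ↥(commutator SL(2, F)) := Nat.card_congr iso.toEquiv
    have h2 : f.ker.index = Nat.card ↥(commutator SL(2, F)) := by rw [index_ker, hf]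
    have h3 := relIndex_mul_index hle
    rw [h1, h2] at h3
    have h4 : (pCore 3 ↥E).relIndex f.ker = 1 :=
      Nat.eq_of_mul_eq_mul_right Nat.card_pos (h3.trans (one_mul _).symm)
    exact mem_map_of_mem E.subtype (relIndex_eq_one.1 h4 he)
  have hkerW : ∀ e : ↥E, rW e = 1 ↔ (e : G) ∈ Q := hker rW hrW fun q hq => by
    refine act_eq_of_forall fun v => ?_
    obtain ⟨x, hx, rfl⟩ := xsurj v
    rw [← hr q.2, ← xconj q.2 hx, hWc x hx q hq, mul_inv_cancel_right]
  have hkerQ : ∀ e : ↥E, rQ e = 1 ↔ (e : G) ∈ Q := hker rQ hrQ fun q hq => by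
    refine act_eq_of_forall fun v => ?_
    obtain ⟨x, hx, rfl⟩ := qsurj v
    rw [← hs q.2, ← qconj q.2 hx, qmul (Q.mul_mem hq hx) (Q.inv_mem hq), qmul hq hx,
      add_comm (qc q), add_assoc, ← qmul hq (Q.inv_mem hq), mul_inv_cancel,
      (qker Q.one_mem).2 W.one_mem, add_zero]
  have rmul : ∀ {a b}, a ∈ E → b ∈ E → r (a * b) = r a * r b := fun {a b} ha hb => by
    rw [hr ha, hr hb, hr (E.mul_mem ha hb), ← map_mul]; rfl
  have smul' : ∀ {a b}, a ∈ E → b ∈ E → s (a * b) = s a * s b := fun {a b} ha hb => by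
    rw [hs ha, hs hb, hs (E.mul_mem ha hb), ← map_mul]; rfl
  -- the involution
  obtain ⟨τ₀, hτ₀⟩ : ∃ e : ↥E, rW e = -1 := (hrW.symm ▸ neg_one_mem h3F : (-1 : SL(2, F)) ∈ rW.range)
  obtain ⟨k, hk⟩ : ∃ k, ((τ₀ : G) ^ 2) ^ 3 ^ k = 1 := by
    have h2 : ((τ₀ ^ 2 : ↥E) : G) ∈ Q := (hkerW _).1 (by rw [map_pow, hτ₀, neg_one_sq])
    obtain ⟨k, hk⟩ := LocalEven64.isPGroup_pCoreOf (p := 3) E ⟨_, h2⟩
    exact ⟨k, by simpa using congrArg Subtype.val hk⟩
  set τ : ↥E := τ₀ ^ 3 ^ k with hτdef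
  have hτ2 : (τ : G) * τ = 1 := by
    rw [← hk, hτdef, SubgroupClass.coe_pow, ← pow_mul, mul_comm, pow_mul, sq]
  have hrτ : rW τ = -1 := by
    rw [hτdef, map_pow, hτ₀]
    exact Odd.neg_one_pow (Odd.pow (by decide))
  have hsτ : rQ τ = -1 := by
    refine (sq_eq_one h3F (by rw [← map_mul, show τ * τ = 1 from Subtype.ext hτ2, map_one])).resolve_left
      fun h => ?_
    rw [(hkerW τ).2 ((hkerQ τ).1 h)] at hrτ
    exact neg_one_ne_one h3F hrτ.symm
  have hτinv : (τ : G)⁻¹ = τ := inv_eq_of_mul_eq_one_right hτ2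
  have hτW : ∀ w ∈ W, ∃ z ∈ Z, (τ : G) * w * τ = z * w⁻¹ := by
    intro w hw
    have hmem : (τ : G) * w * (τ : G)⁻¹ ∈ W :=
      ((mem_normalizer_iff.1 (hnW (le_normalizer τ.2))) w).1 hw
    have hmem' : (τ : G) * w * τ ∈ W := by
      rw [hτinv] at hmem
      exact hmem
    refine ⟨(τ : G) * w * τ * w, (xker (W.mul_mem hmem' hw)).1 ?_, (mul_inv_cancel_right _ _).symm⟩
    rw [xmul hmem' hw, show (τ : G) * w * τ = τ * w * (τ : G)⁻¹ by rw [hτinv], xconj τ.2 hw,
      hr τ.2, hrτ, act_neg_one, neg_add_cancel]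
  have hτX : ∀ x ∈ X, (τ : G) * x * τ = x⁻¹ := by
    let I : Subgroup G :=
      { carrier := {x | x ∈ W ∧ (τ : G) * x * τ = x⁻¹}
        one_mem' := ⟨W.one_mem, by simp [hτ2]⟩
        mul_mem' := fun {x y} hx hy => ⟨W.mul_mem hx.1 hy.1, by
          rw [show (τ : G) * (x * y) * τ = τ * x * ((τ : G) * τ) * y * τ by rw [hτ2]; group,
            show (τ : G) * x * ((τ : G) * τ) * y * τ = (τ * x * τ) * ((τ : G) * y * τ) by group,
            hx.2, hy.2, mul_inv_rev, hWab _ (W.inv_mem hx.1) _ (W.inv_mem hy.1)]⟩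
        inv_mem' := fun {x} hx => ⟨W.inv_mem hx.1, by
          rw [show (τ : G) * x⁻¹ * τ = ((τ : G)⁻¹ * x * (τ : G)⁻¹)⁻¹ by group, hτinv, hx.2]⟩ }
    suffices X ≤ I from fun x hx => (this hx).2
    refine commutator_le.2 fun w hw e he => ⟨?_, ?_⟩
    · exact (le_normalizer_iff_commutator_le_left.1 (le_normalizer.trans hnW)) (commutator_mem_commutator hw he)
    obtain ⟨z, hz, ez⟩ := hτW w hw
    set q : G := e⁻¹ * ((τ : G) * e * τ) with hq
    have hτeE : (τ : G) * e * τ ∈ E := E.mul_mem (E.mul_mem τ.2 he) τ.2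
    have hqE : q ∈ E := E.mul_mem (E.inv_mem he) hτeE
    have hqQ : q ∈ Q := by
      refine (hkerW ⟨q, hqE⟩).1 ?_
      rw [← hr hqE, hq, rmul (E.inv_mem he) hτeE, rmul (E.mul_mem τ.2 he) τ.2, rmul τ.2 he, hr τ.2, hrτ,
        show r e⁻¹ = (r e)⁻¹ from eq_inv_of_mul_eq_one_left (by
          rw [← rmul (E.inv_mem he) he, inv_mul_cancel, hr E.one_mem, ← map_one rW]; rfl)]
      apply Subtype.ext
      simp
    show (τ : G) * ⁅w, e⁆ * τ = _
    have h1 : (τ : G) * ⁅w, e⁆ * τ = ⁅(τ : G) * w * τ, (τ : G) * e * τ⁆ := by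
      have := conj_commutator (τ : G) w e
      rwa [hτinv] at this
    rw [h1, ez, show (τ : G) * e * τ = e * q by rw [hq]; group, commutator_mul_left]
    have hze : ∀ y ∈ E, z * y = y * z := fun y hy => (mem_centralizer_iff.1 hz.2 y hy).symm
    have hwi := W.inv_mem hw
    have hmemW : ⁅w⁻¹, e * q⁆ ∈ W :=
      (le_normalizer_iff_commutator_le_left.1 (le_normalizer.trans hnW))
        (commutator_mem_commutator hwi (E.mul_mem he hqE))
    rw [commutatorElement_eq_one_iff_mul_comm.2 (hze _ (E.mul_mem he hqE)), mul_one,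
      hWab z hz.1 _ hmemW, mul_inv_cancel_right, commutator_mul_right,
      commutatorElement_eq_one_iff_mul_comm.2 (hWc _ hwi q hqQ).symm, mul_one, mul_inv_cancel, mul_one]
    have hwe : ⁅w, e⁆ ∈ W :=
      (le_normalizer_iff_commutator_le_left.1 (le_normalizer.trans hnW)) (commutator_mem_commutator hw he)
    rw [show ⁅w⁻¹, e⁆ = w⁻¹ * ⁅w, e⁆⁻¹ * w by simp only [commutatorElement_def]; group,
      hWab _ hwi _ (W.inv_mem hwe), inv_mul_cancel_right]
  have hXZ : ∀ x ∈ X, x ∈ Z → x = 1 := fun x hx hz => by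
    have h1 := hτX x hx
    rw [show (τ : G) * x = x * τ from mem_centralizer_iff.1 hz.2 τ τ.2, mul_assoc, hτ2, mul_one] at h1
    have h2 : x ^ 3 = 1 := hWel.2 x (hXW hx)
    rw [pow_succ, sq, show x * x = 1 by nth_rw 2 [h1]; exact mul_inv_cancel x, one_mul] at h2
    exact h2
  -- the pairing
  have hQQ : ∀ q ∈ Q, ∀ q' ∈ Q, ⁅q, q'⁆ ∈ Z := fun q hq q' hq' =>
    hder ▸ commutator_mem_commutator hq hq'
  letI : CommGroup ↥Z := { (inferInstance : Group ↥Z) with
    mul_comm := fun a b => Subtype.ext (hWab _ a.2.1 _ b.2.1) }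
  choose lift hlift using qsurj
  let pair : (Fin 2 → F) → (Fin 2 → F) → Additive ↥Z := fun a b =>
    Additive.ofMul ⟨⁅lift a, lift b⁆, hQQ _ (hlift a).1 _ (hlift b).1⟩
  have hpw : ∀ {q q' q₁ q₁'}, q ∈ Q → q' ∈ Q → q₁ ∈ Q → q₁' ∈ Q → qc q = qc q₁ → qc q' = qc q₁' →
      ⁅q, q'⁆ = ⁅q₁, q₁'⁆ := by
    intro q q' q₁ q₁' hq hq' hq₁ hq₁' e e'
    have hw : q₁⁻¹ * q ∈ W := (qker (Q.mul_mem (Q.inv_mem hq₁) hq)).1 (by
      rw [qmul (Q.inv_mem hq₁) hq, e, ← qmul (Q.inv_mem hq₁) hq₁, inv_mul_cancel,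
        (qker Q.one_mem).2 W.one_mem])
    have hw' : q₁'⁻¹ * q' ∈ W := (qker (Q.mul_mem (Q.inv_mem hq₁') hq')).1 (by
      rw [qmul (Q.inv_mem hq₁') hq', e', ← qmul (Q.inv_mem hq₁') hq₁', inv_mul_cancel,
        (qker Q.one_mem).2 W.one_mem])
    rw [show q = q₁ * (q₁⁻¹ * q) by group, show q' = q₁' * (q₁'⁻¹ * q') by group, commutator_mul_left,
      commutatorElement_eq_one_iff_mul_comm.2 (hWc _ hw _ (Q.mul_mem hq₁' (hWQ hw'))).symm, mul_one,
      mul_inv_cancel, one_mul, commutator_mul_right,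
      commutatorElement_eq_one_iff_mul_comm.2 (hWc _ hw' q₁ hq₁), mul_one, mul_inv_cancel, mul_one]
  have hpl : ∀ a b c, pair (a + b) c = pair a c + pair b c := fun a b c => Subtype.ext (by
    show ⁅lift (a + b), lift c⁆ = ⁅lift a, lift c⁆ * ⁅lift b, lift c⁆
    have hab := Q.mul_mem (hlift a).1 (hlift b).1
    rw [hpw (hlift _).1 (hlift c).1 hab (hlift c).1 (by rw [(hlift _).2, qmul (hlift a).1 (hlift b).1,
      (hlift a).2, (hlift b).2]) rfl, commutator_mul_left]
    have hm := hQQ _ (hlift b).1 _ (hlift c).1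
    rw [hWc _ hm.1 _ (hlift a).1, mul_inv_cancel_right, hWab _ hm.1 _ (hQQ _ (hlift a).1 _ (hlift c).1).1])
  have hskew : ∀ a b, pair b a = -pair a b := fun a b => Subtype.ext (by
    show ⁅lift b, lift a⁆ = ⁅lift a, lift b⁆⁻¹
    rw [commutatorElement_inv])
  have hpr : ∀ a b c, pair a (b + c) = pair a b + pair a c := fun a b c => by
    rw [hskew, hpl, hskew a b, hskew a c]; abel
  obtain ⟨κ, hκ⟩ := exists_factor h3F pair hpl hpr
    (fun a => Subtype.ext (commutatorElement_self _))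
    fun g hg a b => Subtype.ext (by
      obtain ⟨e, he⟩ := (hrQ.symm ▸ hg : g ∈ rQ.range)
      show ⁅lift (act g a), lift (act g b)⁆ = ⁅lift a, lift b⁆
      have hn := hnQ (le_normalizer e.2)
      have hc : ∀ y, (e : G) * lift y * (e : G)⁻¹ ∈ Q := fun y =>
        ((mem_normalizer_iff.1 hn) _).1 (hlift y).1
      rw [hpw (hlift _).1 (hlift _).1 (hc a) (hc b)
        (by rw [(hlift _).2, qconj e.2 (hlift a).1, hs e.2, he, (hlift a).2])
        (by rw [(hlift _).2, qconj e.2 (hlift b).1, hs e.2, he, (hlift b).2]), ← conj_commutator,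
        mem_centralizer_iff.1 (hQQ _ (hlift a).1 _ (hlift b).1).2 e e.2, mul_inv_cancel_right])
  have hpair : ∀ {q q'}, q ∈ Q → q' ∈ Q → ⁅q, q'⁆ = ((κ (det2 (qc q) (qc q'))).toMul : G) :=
    fun {q q'} hq hq' => by
      rw [← hκ]; exact hpw hq hq' (hlift _).1 (hlift _).1 (hlift _).2.symm (hlift _).2.symm
  have hκinj : Function.Injective κ := by
    have hsurj : Function.Surjective κ := by
      intro z
      have hle : ⁅Q, Q⁆ ≤ ((AddMonoidHom.toMultiplicative κ).range).map Z.subtype :=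
        commutator_le.2 fun a ha b hb => ⟨(κ (det2 (qc a) (qc b))).toMul,
          ⟨Multiplicative.ofAdd (det2 (qc a) (qc b)), rfl⟩, (hpair ha hb).symm⟩
      obtain ⟨y, ⟨t, rfl⟩, ht⟩ := hle (hder.ge z.toMul.2)
      exact ⟨t.toAdd, Additive.toMul.injective (Subtype.ext ht)⟩
    haveI : Finite F := inferInstance
    refine ((Nat.bijective_iff_surjective_and_card κ).2 ⟨hsurj, ?_⟩).1
    rw [Nat.card_eq_fintype_card, hn]
    show 3 ^ n = Nat.card ↥Z
    rw [← hcard, hZE]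
  have hcube : ∀ {q}, q ∈ Q → q ^ 3 ∈ Z := fun hq => by
    rw [← hfr]
    exact LocalEven62.pow_mem_frattini_map (LocalEven64.isPGroup_pCoreOf E) hq
  exact ⟨{
    hG := hG, hE := hE, h3 := h3F, r := r, r_mul := rmul,
    r_mem := fun {a} ha => by rw [hr ha, ← hrW]; exact ⟨_, rfl⟩
    r_surj := fun g hg => by
      obtain ⟨e, he⟩ := (hrW.symm ▸ hg : g ∈ rW.range)
      exact ⟨e, e.2, (hr e.2).trans he⟩
    r_ker := fun {a} ha => by rw [hr ha]; exact hkerW _
    s := s, s_mul := smul',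
    s_mem := fun {a} ha => by rw [hs ha, ← hrQ]; exact ⟨_, rfl⟩
    s_surj := fun g hg => by
      obtain ⟨e, he⟩ := (hrQ.symm ▸ hg : g ∈ rQ.range)
      exact ⟨e, e.2, (hs e.2).trans he⟩
    s_ker := fun {a} ha => by rw [hs ha]; exact hkerQ _
    xc := xc, xc_mul := fun hx hy => xmul (hXW hx) (hXW hy),
    xc_surj := fun v => by
      obtain ⟨w, hw, rfl⟩ := xsurj v
      obtain ⟨x, hx, z, hz, rfl⟩ := hdecW w hw
      exact ⟨x, hx, by rw [xmul (hXW hx) hz.1, (xker hz.1).2 hz, add_zero]⟩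
    xc_inj := fun hx h0 => hXZ _ hx ((xker (hXW hx)).1 h0)
    xc_conj := fun he hx => xconj he (hXW hx)
    qc := qc, qc_mul := qmul, qc_surj := fun v => ⟨lift v, (hlift v).1, (hlift v).2⟩, qc_ker := qker,
    qc_conj := qconj, τ := τ, τ_mem := τ.2, τ_sq := hτ2,
    r_τ := by rw [hr τ.2, hrτ]
    s_τ := by rw [hs τ.2, hsτ]
    τ_X := fun hx => hτX _ hx, W_eq := hWXZ, W_le := hWV, V_comm := hXeq.ge, Q_le := hQP,
    P_comm := fun hu he => hPEQ' (commutator_mem_commutator hu he),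
    P_Q := fun hu hq => hPQm _ hu _ hq, der := hder, cube := hcube,
    κ := fun a => ((κ a).toMul : G),
    κ_add := fun a b => by rw [map_add]; rfl
    κ_mem := fun a => (κ a).toMul.2
    κ_inj := fun {a} ha => hκinj (by
      rw [map_zero]
      exact Additive.toMul.injective (Subtype.ext ha))
    pairing := hpair, nonquad := hnq, ZE := hZE }⟩

end Cfsg.Agent.LAE62
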