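import Cfsg.Agent.LAE62.BlockStable

/-!
Elementary consequences of the data of an exceptional block.
-/

set_option autoImplicit false
set_option linter.unusedSectionVars false
set_option linter.unusedVariables false
set_option linter.style.haveILetI false

open Subgroup Cfsg
open scoped commutatorElement MatrixGroups
open Cfsg.Agent.PushUp62 (centMod commutator_mem_symm conj_commutator le_normalizer_of_conj
  commutator_mul_left commutator_mul_right mem_sup_of_le_normalizer conj_mem_of_le_normalizer')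

namespace Cfsg.Agent.LAE62

variable {G : Type*} [Group G]

/-- Commutators of factors that centralise the commutators multiply. -/
theorem comm_mul_left_central {u v w : G} (h : u * ⁅v, w⁆ = ⁅v, w⁆ * u) :
    ⁅u * v, w⁆ = ⁅v, w⁆ * ⁅u, w⁆ := by
  rw [commutator_mul_left, h, mul_inv_cancel_right]

theorem comm_mul_right_central {u v w : G} (h : v * ⁅u, w⁆ = ⁅u, w⁆ * v) :
    ⁅u, v * w⁆ = ⁅u, v⁆ * ⁅u, w⁆ := by
  rw [commutator_mul_right, h]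
  group

theorem conj_mem' {g x : G} {A : Subgroup G} (h : g ∈ normalizer (A : Set G)) (hx : x ∈ A) :
    g * x * g⁻¹ ∈ A := ((mem_normalizer_iff.1 h) x).1 hx

namespace Exc

variable [Finite G] {T : Sylow 3 G} {E : Subgroup G} {F : Type} [Field F] (D : Exc T E F)

local notation "𝐏" => pCore 3 G
local notation "𝐕" => omegaOneCenter 3 (pCore 3 G)
local notation "𝐗" => modX 3 E
local notation "𝐐" => pCoreOf 3 E
local notation "𝐖" => omegaOneCenter 3 (pCoreOf 3 E)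
local notation "𝐙" => (omegaOneCenter 3 (pCoreOf 3 E) ⊓ centralizer (E : Set G))
local notation "𝐂" => centralizer (modX 3 E : Set G)

theorem mem_normP (g : G) : g ∈ normalizer (𝐏 : Set G) := LAE65.Block.le_normalizer_pCore ⊤ (mem_top g)

theorem mem_normV (g : G) : g ∈ normalizer (𝐕 : Set G) :=
  LAE65.Block.le_normalizer_omegaPCore ⊤ (mem_top g)

theorem Q_le_E : 𝐐 ≤ E := LocalEven64.pCoreOf_le E

theorem W_le_Q : 𝐖 ≤ 𝐐 := LAE65.Block.omegaOneCenter_le _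

theorem V_le_P : 𝐕 ≤ 𝐏 := LAE65.Block.omegaOneCenter_le _

theorem normE_le_Q : normalizer (E : Set G) ≤ normalizer (𝐐 : Set G) :=
  LocalEven62.normalizer_le_normalizer_pCoreOf E

theorem normQ_le_W : normalizer (𝐐 : Set G) ≤ normalizer (𝐖 : Set G) :=
  LAE65.Block.normalizer_le_normalizer_omegaOneCenter _

theorem normE_le_X : normalizer (E : Set G) ≤ normalizer (𝐗 : Set G) :=
  normalizer_le_normalizer_modX 3 E

theorem normX_le_C : normalizer (𝐗 : Set G) ≤ normalizer (𝐂 : Set G) := fun g hg =>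
  LocalEven64.le_normalizer_centralizer le_rfl hg

include D

theorem X_le_W : 𝐗 ≤ 𝐖 :=
  le_normalizer_iff_commutator_le_left.1 (le_normalizer.trans (normE_le_Q.trans normQ_le_W))

theorem X_le_V : 𝐗 ≤ 𝐕 := LAE65.Block.module_le D.hG D.hE

theorem W_le_P : 𝐖 ≤ 𝐏 := D.W_le.trans V_le_P

theorem Z_le_V : 𝐙 ≤ 𝐕 := inf_le_left.trans D.W_le

theorem B_le_normE : baumannSubgroupOf 3 (T : Subgroup G) ≤ normalizer (E : Set G) :=
  LAE65.Block.le_normalizer_of_commutator_eq D.hE.2.1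

theorem VP_comm {v u : G} (hv : v ∈ 𝐕) (hu : u ∈ 𝐏) : u * v = v * u :=
  mem_centralizer_iff.1 (LAE65.Block.omegaOneCenter_le_centralizer _ hv) u hu

theorem W_comm {w q : G} (hw : w ∈ 𝐖) (hq : q ∈ 𝐐) : q * w = w * q :=
  D.VP_comm (D.W_le hw) (D.Q_le hq)

theorem W_comm' {w u : G} (hw : w ∈ 𝐖) (hu : u ∈ 𝐏) : u * w = w * u := D.VP_comm (D.W_le hw) hu

theorem Z_cent {z e : G} (hz : z ∈ 𝐙) (he : e ∈ E) : e * z * e⁻¹ = z := by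
  rw [mem_centralizer_iff.1 hz.2 e he, mul_inv_cancel_right]

theorem X_cent {x c : G} (hc : c ∈ 𝐂) (hx : x ∈ 𝐗) : c * x * c⁻¹ = x := by
  rw [← mem_centralizer_iff.1 hc x hx, mul_inv_cancel_right]

theorem τ_inv : D.τ⁻¹ = D.τ := inv_eq_of_mul_eq_one_right D.τ_sq

theorem τ_Z {z : G} (hz : z ∈ 𝐙) : D.τ * z * D.τ = z := by
  have h := D.Z_cent hz D.τ_mem
  rwa [D.τ_inv] at h

theorem X_inter_Z {x : G} (hx : x ∈ 𝐗) (hz : x ∈ 𝐙) : x = 1 := by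
  have h := D.τ_X hx
  rw [D.τ_Z hz] at h
  have h3 : x ^ 3 = 1 := (LAE65.Block.isElementaryAbelian_omegaOneCenter 𝐐).2 x (D.X_le_W hx)
  rw [pow_succ, sq, show x * x = 1 by nth_rw 2 [h]; exact mul_inv_cancel x, one_mul] at h3
  exact h3

theorem W_dec {w : G} (hw : w ∈ 𝐖) : ∃ x ∈ 𝐗, ∃ z ∈ 𝐙, w = x * z :=
  mem_sup_of_le_normalizer (fun x hx => by
    refine LocalEven62.mem_normalizer_of_conj_mem fun z hz => ?_
    rw [D.W_comm hz.1 (W_le_Q (D.X_le_W hx)), mul_inv_cancel_right]; exact hz) (D.W_eq hw)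

theorem comm_mem_Q {e u : G} (he : e ∈ E) (hu : u ∈ 𝐏) : ⁅e, u⁆ ∈ 𝐐 :=
  commutator_mem_symm (D.P_comm hu he)

theorem comm_E_V {e v : G} (he : e ∈ E) (hv : v ∈ 𝐕) : ⁅e, v⁆ ∈ 𝐗 :=
  commutator_mem_symm (D.V_comm (commutator_mem_commutator hv he))

/-! ### Coordinates on `Q/W` -/

theorem qc_one : D.qc 1 = 0 := (D.qc_ker (one_mem _)).2 (one_mem _)

theorem qc_inv {q : G} (hq : q ∈ 𝐐) : D.qc q⁻¹ = -D.qc q := by
  rw [eq_neg_iff_add_eq_zero, ← D.qc_mul (inv_mem hq) hq, inv_mul_cancel, D.qc_one]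

theorem qc_mul_W {w q : G} (hw : w ∈ 𝐖) (hq : q ∈ 𝐐) : D.qc (w * q) = D.qc q := by
  rw [D.qc_mul (W_le_Q hw) hq, (D.qc_ker (W_le_Q hw)).2 hw, zero_add]

theorem qc_eq_iff {q q' : G} (hq : q ∈ 𝐐) (hq' : q' ∈ 𝐐) :
    D.qc q = D.qc q' ↔ q'⁻¹ * q ∈ 𝐖 := by
  rw [← D.qc_ker (mul_mem (inv_mem hq') hq), D.qc_mul (inv_mem hq') hq, D.qc_inv hq', neg_add_eq_zero,
    eq_comm]

theorem qc_τ {q : G} (hq : q ∈ 𝐐) : D.qc (D.τ * q * D.τ) = -D.qc q := by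
  have h := D.qc_conj D.τ_mem hq
  rwa [D.τ_inv, D.s_τ, act_neg_one] at h

theorem qc_conj_P {u q : G} (hu : u ∈ 𝐏) (hq : q ∈ 𝐐) :
    u * q * u⁻¹ ∈ 𝐐 ∧ D.qc (u * q * u⁻¹) = D.qc q := by
  have e : u * q * u⁻¹ = ⁅u, q⁆ * q := by rw [commutatorElement_def]; group
  have hw := D.P_Q hu hq
  rw [e]
  exact ⟨mul_mem (W_le_Q hw) hq, D.qc_mul_W hw hq⟩

/-- The projection of `O₃(G)` to the coordinates of `Q/W`, with kernel the fixed points of `τ`. -/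
def pi (u : G) : Fin 2 → F := D.qc ⁅D.τ, u⁆

theorem pi_mul {u v : G} (hu : u ∈ 𝐏) (hv : v ∈ 𝐏) : D.pi (u * v) = D.pi u + D.pi v := by
  have h := D.qc_conj_P hu (D.comm_mem_Q D.τ_mem hv)
  rw [pi, show ⁅D.τ, u * v⁆ = ⁅D.τ, u⁆ * (u * ⁅D.τ, v⁆ * u⁻¹) from commutator_mul_right _ _ _,
    D.qc_mul (D.comm_mem_Q D.τ_mem hu) h.1, h.2]
  rfl

theorem pi_one : D.pi 1 = 0 := by rw [pi, commutatorElement_one_right, D.qc_one]

theorem pi_inv {u : G} (hu : u ∈ 𝐏) : D.pi u⁻¹ = -D.pi u := by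
  rw [eq_neg_iff_add_eq_zero, ← D.pi_mul (inv_mem hu) hu, inv_mul_cancel, D.pi_one]

theorem pi_Q {q : G} (hq : q ∈ 𝐐) : D.pi q = D.qc q := by
  have hτq : D.τ * q * D.τ ∈ 𝐐 := by
    have h := conj_mem' (normE_le_Q (le_normalizer D.τ_mem)) hq
    rwa [D.τ_inv] at h
  rw [pi, commutatorElement_def, D.τ_inv, D.qc_mul hτq (inv_mem hq), D.qc_inv hq, D.qc_τ hq]
  funext i
  simp only [Pi.add_apply, Pi.neg_apply]
  linear_combination -(D.qc q i) * D.h3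

theorem pi_V {v : G} (hv : v ∈ 𝐕) : D.pi v = 0 :=
  (D.qc_ker (D.comm_mem_Q D.τ_mem (V_le_P hv))).2 (D.X_le_W (D.comm_E_V D.τ_mem hv))

theorem pi_eq_of_congr {u u' : G} (hu : u ∈ 𝐏) (h : u⁻¹ * u' ∈ 𝐕) : D.pi u' = D.pi u := by
  rw [show u' = u * (u⁻¹ * u') by group, D.pi_mul hu (V_le_P h), D.pi_V h, add_zero]

theorem pi_conj {e u : G} (he : e ∈ E) (hu : u ∈ 𝐏) :
    D.pi (e * u * e⁻¹) = act (D.s e) (D.pi u) := by
  have hτe : e⁻¹ * D.τ * e ∈ E := mul_mem (mul_mem (inv_mem he) D.τ_mem) he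
  set q := D.τ * (e⁻¹ * D.τ * e) with hq
  have hqE : q ∈ E := mul_mem D.τ_mem hτe
  have hqQ : q ∈ 𝐐 := by
    refine (D.s_ker hqE).1 ?_
    have hs1 : D.s 1 = 1 := (D.s_ker E.one_mem).2 (one_mem _)
    have hse : D.s e⁻¹ * D.s e = 1 := by rw [← D.s_mul (inv_mem he) he, inv_mul_cancel, hs1]
    rw [hq, D.s_mul D.τ_mem hτe, D.s_mul (mul_mem (inv_mem he) D.τ_mem) he,
      D.s_mul (inv_mem he) D.τ_mem, D.s_τ]
    simp [hse]
  have hcQ : ⁅q, u⁆ ∈ 𝐖 := commutator_mem_symm (D.P_Q hu hqQ)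
  have e1 : ⁅D.τ, e * u * e⁻¹⁆ = e * (D.τ * ⁅q, u⁆ * D.τ⁻¹ * ⁅D.τ, u⁆) * e⁻¹ := by
    rw [← commutator_mul_left, show D.τ * q = e⁻¹ * D.τ * e by rw [hq, ← mul_assoc, D.τ_sq, one_mul],
      conj_commutator]
    simp [mul_assoc]
  have hW : D.τ * ⁅q, u⁆ * D.τ⁻¹ ∈ 𝐖 :=
    conj_mem' (normQ_le_W (normE_le_Q (le_normalizer D.τ_mem))) hcQ
  have hc := D.comm_mem_Q D.τ_mem hu
  rw [pi, e1, D.qc_conj he (mul_mem (W_le_Q hW) hc), D.qc_mul_W hW hc]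
  rfl

/-- The fixed points of `τ` are fixed by the block modulo `W`. -/
theorem fix_of_pi {e u : G} (he : e ∈ E) (hu : u ∈ 𝐏) (h : D.pi u = 0) : ⁅e, u⁆ ∈ 𝐖 := by
  have hc := D.comm_mem_Q he hu
  refine (D.qc_ker hc).1 ?_
  have heu : e * u * e⁻¹ ∈ 𝐏 := conj_mem' (mem_normP e) hu
  rw [← D.pi_Q hc, commutatorElement_def, D.pi_mul heu (inv_mem hu), D.pi_conj he hu, D.pi_inv hu, h,
    neg_zero, add_zero]
  funext i; simp [act_apply]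

theorem exists_dec {u : G} (hu : u ∈ 𝐏) :
    ∃ q ∈ 𝐐, D.qc q = D.pi u ∧ D.pi (q⁻¹ * u) = 0 :=
  ⟨⁅D.τ, u⁆, D.comm_mem_Q D.τ_mem hu, rfl, by
    have hq := D.comm_mem_Q D.τ_mem hu
    rw [D.pi_mul (inv_mem (D.Q_le hq)) hu, D.pi_inv (D.Q_le hq), D.pi_Q hq]
    exact neg_add_cancel _⟩

/-! ### The pairing -/

theorem κ_zero : D.κ 0 = 1 := by
  have h := D.κ_add 0 0
  rw [add_zero] at h
  exact left_eq_mul.1 h

theorem κ_neg (a : F) : D.κ (-a) = (D.κ a)⁻¹ :=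
  eq_inv_of_mul_eq_one_left (by rw [← D.κ_add, neg_add_cancel, D.κ_zero])

theorem κ_mem_X {a : F} (h : D.κ a ∈ 𝐗) : a = 0 := D.κ_inj (D.X_inter_Z h (D.κ_mem a))

theorem τ_W {w : G} (hw : w ∈ 𝐖) : ∃ x ∈ 𝐗, ∃ z ∈ 𝐙, w = x * z ∧ D.τ * w * D.τ = x⁻¹ * z := by
  obtain ⟨x, hx, z, hz, rfl⟩ := D.W_dec hw
  refine ⟨x, hx, z, hz, rfl, ?_⟩
  rw [show D.τ * (x * z) * D.τ = D.τ * x * (D.τ * D.τ) * z * D.τ by rw [D.τ_sq]; group,
    show D.τ * x * (D.τ * D.τ) * z * D.τ = (D.τ * x * D.τ) * (D.τ * z * D.τ) by group, D.τ_X hx,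
    D.τ_Z hz]

/-- `Q` and the fixed points of `τ` commute modulo `X`. -/
theorem comm_ker {q f : G} (hq : q ∈ 𝐐) (hf : f ∈ 𝐏) (h : D.pi f = 0) : ⁅q, f⁆ ∈ 𝐗 := by
  have hw : ⁅q, f⁆ ∈ 𝐖 := commutator_mem_symm (D.P_Q hf hq)
  obtain ⟨x, hx, z, hz, e, eτ⟩ := D.τ_W hw
  have h1 : D.τ * ⁅q, f⁆ * D.τ = ⁅q, f⁆⁻¹ := by
    have hτq : D.τ * q * D.τ⁻¹ ∈ 𝐐 := conj_mem' (normE_le_Q (le_normalizer D.τ_mem)) hq
    have w2 : ⁅D.τ, f⁆ ∈ 𝐖 := (D.qc_ker (D.comm_mem_Q D.τ_mem hf)).1 h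
    have w1 : q * (D.τ * q * D.τ⁻¹) ∈ 𝐖 := by
      rw [← D.qc_ker (mul_mem hq hτq), D.qc_mul hq hτq]
      rw [D.τ_inv, D.qc_τ hq, add_neg_cancel]
    have e1 : D.τ * f * D.τ⁻¹ = ⁅D.τ, f⁆ * f := by rw [commutatorElement_def]; group
    have e2 : D.τ * q * D.τ⁻¹ = q⁻¹ * (q * (D.τ * q * D.τ⁻¹)) := by group
    have hc : D.τ * ⁅q, f⁆ * D.τ = ⁅q⁻¹, f⁆ := by
      conv_lhs => arg 2; rw [← D.τ_inv]
      rw [conj_commutator, e1, e2]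
      generalize q * (D.τ * q * D.τ⁻¹) = a at w1
      generalize ⁅D.τ, f⁆ = b at w2
      rw [commutator_mul_left, commutatorElement_eq_one_iff_mul_comm.2
        (D.W_comm' w1 (mul_mem (D.W_le_P w2) hf)).symm, mul_one, mul_inv_cancel, one_mul,
        commutator_mul_right, commutatorElement_eq_one_iff_mul_comm.2
          (D.W_comm w2 (inv_mem hq)), one_mul]
      have hwm : ⁅q⁻¹, f⁆ ∈ 𝐖 := commutator_mem_symm (D.P_Q hf (inv_mem hq))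
      rw [D.W_comm' hwm (D.W_le_P w2), mul_inv_cancel_right]
    rw [hc, show ⁅q⁻¹, f⁆ = q⁻¹ * ⁅q, f⁆⁻¹ * q by simp only [commutatorElement_def]; group,
      D.W_comm (inv_mem hw) (inv_mem hq), inv_mul_cancel_right]
  rw [eτ, e, mul_inv_rev] at h1
  have hzx : z⁻¹ * x⁻¹ = x⁻¹ * z⁻¹ := (D.W_comm (inv_mem hz.1) (W_le_Q (inv_mem (D.X_le_W hx)))).symm
  rw [hzx] at h1
  have h2 : z = z⁻¹ := mul_left_cancel h1
  have h3 : z ^ 3 = 1 := (LAE65.Block.isElementaryAbelian_omegaOneCenter 𝐐).2 z hz.1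
  have hz1 : z = 1 := by
    rw [pow_succ, sq, show z * z = 1 by nth_rw 2 [h2]; exact mul_inv_cancel z, one_mul] at h3
    exact h3
  rw [e, hz1, mul_one]
  exact hx

theorem comm_pair {q u : G} (hq : q ∈ 𝐐) (hu : u ∈ 𝐏) :
    ∃ x ∈ 𝐗, ⁅q, u⁆ = D.κ (det2 (D.qc q) (D.pi u)) * x := by
  obtain ⟨q', hq', e, he⟩ := D.exists_dec hu
  have hf : q'⁻¹ * u ∈ 𝐏 := mul_mem (inv_mem (D.Q_le hq')) hu
  refine ⟨⁅q, q'⁻¹ * u⁆, D.comm_ker hq hf he, ?_⟩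
  rw [← e, ← D.pairing hq hq']
  nth_rw 1 [show u = q' * (q'⁻¹ * u) by group]
  exact comm_mul_right_central (D.W_comm (commutator_mem_symm (D.P_Q hf hq)) hq')

theorem det_eq_zero_of_comm {q u : G} (hq : q ∈ 𝐐) (hu : u ∈ 𝐏) (h : ⁅q, u⁆ ∈ 𝐗) :
    det2 (D.qc q) (D.pi u) = 0 := by
  obtain ⟨x, hx, e⟩ := D.comm_pair hq hu
  refine D.κ_mem_X ?_
  rw [eq_mul_inv_of_mul_eq e.symm]
  exact mul_mem h (inv_mem hx)

/-- A conjugate of `τ` under `C(X)` centralises `V/X`. -/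
theorem comm_τ'_V {c v : G} (hc : c ∈ 𝐂) (hv : v ∈ 𝐕) : ⁅c * D.τ * c⁻¹, v⁆ ∈ 𝐗 := by
  have h := D.comm_E_V D.τ_mem (conj_mem' (mem_normV c⁻¹) hv)
  have h2 := D.X_cent hc h
  rw [show ⁅c * D.τ * c⁻¹, v⁆ = c * ⁅D.τ, c⁻¹ * v * c⁻¹⁻¹⁆ * c⁻¹ by
    simp only [commutatorElement_def]; group, h2]
  exact h

theorem τ'_sq (c : G) : (c * D.τ * c⁻¹) * (c * D.τ * c⁻¹) = 1 := by
  rw [show c * D.τ * c⁻¹ * (c * D.τ * c⁻¹) = c * (D.τ * D.τ) * c⁻¹ by group, D.τ_sq]; group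

theorem ττ'_mem_C {c : G} (hc : c ∈ 𝐂) : D.τ * (c * D.τ * c⁻¹) ∈ 𝐂 := by
  rw [show D.τ * (c * D.τ * c⁻¹) = (D.τ * c * D.τ⁻¹) * c⁻¹ by rw [D.τ_inv]; group]
  exact mul_mem (conj_mem' (normX_le_C (normE_le_X (le_normalizer D.τ_mem))) hc) (inv_mem hc)

end Exc

end Cfsg.Agent.LAE62
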