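import Cfsg.Agent.LAE62.ExcQuad

/-!
Elements centralising the module and normalising `Q` normalise the block.
-/

set_option autoImplicit false
set_option linter.unusedSectionVars false
set_option linter.unusedVariables false
set_option linter.style.haveILetI false

open Subgroup Cfsg
open scoped commutatorElement MatrixGroups
open Cfsg.Agent.PushUp62 (centMod commutator_mem_symm conj_commutator le_normalizer_of_conj
  commutator_mul_left commutator_mul_right mem_sup_of_le_normalizer conj_mem_of_le_normalizer')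

namespace Cfsg.Agent.LAE62

variable {F : Type} [Field F]

/-- An additive map commuting with `i` and `j` over the prime field is a scalar. -/
theorem exists_scalar_small (h3 : (3 : F) = 0) (hF : ∀ t : F, t = 0 ∨ t = 1 ∨ t = -1)
    (L : (Fin 2 → F) →+ (Fin 2 → F)) (hi : ∀ y, L (act iMat y) = act iMat (L y))
    (hj : ∀ y, L (act (jMat h3) y) = act (jMat h3) (L y)) : ∃ c : F, ∀ y, L y = c • y := by
  have hi := hi ![1, 0]
  have hj := hj ![1, 0]
  have e1 : act iMat ![(1 : F), 0] = -![0, 1] := by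
    funext i; fin_cases i <;> simp [act_apply, iMat_coe]
  have e2 : act (jMat h3) ![(1 : F), 0] = ![1, 0] + ![0, 1] := by
    funext i; fin_cases i <;> simp [act_apply, jMat_coe]
  rw [e1, map_neg] at hi
  rw [e2, map_add] at hj
  have i0 := congrFun hi 0; have i1 := congrFun hi 1
  have j0 := congrFun hj 0; have j1 := congrFun hj 1
  simp [act_apply, iMat_coe, jMat_coe] at i0 i1 j0 j1
  have hb : L ![1, 0] 1 = 0 := mul_left_cancel₀ (two_ne_zero' h3) (by linear_combination -(j0 + i0))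
  refine ⟨L ![1, 0] 0, fun y => ?_⟩
  conv_lhs => rw [eq_basis y, map_add, smul_of_small hF, smul_of_small hF]
  funext i
  fin_cases i
  · simp; linear_combination -(y 1) * i0 - (y 1) * hb
  · simp [hb]; linear_combination (y 1) * i1

theorem jMat_sq (h3 : (3 : F) = 0) : jMat h3 * jMat h3 = -1 := by
  apply Subtype.ext
  rw [Matrix.SpecialLinearGroup.coe_mul, jMat_coe]
  ext i j
  fin_cases i <;> fin_cases j <;>
    simp [Matrix.mul_apply, Fin.sum_univ_two] <;> linear_combination h3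

/-- Over the prime field a product of two square roots of `-1` has order dividing four, if one of them is
`i` or `j`. -/
theorem small_pow_four (h3 : (3 : F) = 0) (hF : ∀ t : F, t = 0 ∨ t = 1 ∨ t = -1) {u g : SL(2, F)}
    (hu : u * u = -1) (hg : g = iMat ∨ g = jMat h3) : (u * g⁻¹) ^ 4 = 1 := by
  have hgg : g * g = -1 := by
    rcases hg with rfl | rfl
    exacts [iMat_sq, jMat_sq h3]
  suffices u * g⁻¹ = 1 ∨ u * g⁻¹ = -1 ∨ (u * g⁻¹) * (u * g⁻¹) = -1 by
    rcases this with h | h | h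
    · rw [h, one_pow]
    · simp [h, pow_succ]
    · rw [show ∀ x : SL(2, F), x ^ 4 = (x * x) * (x * x) from fun x => by
        simp only [pow_succ, pow_zero, one_mul, mul_assoc], h, neg_mul_neg, one_mul]
  have hgi : g⁻¹ = -g := inv_eq_of_mul_eq_one_right (by rw [mul_neg, hgg, neg_neg])
  have e := congrArg (fun x : SL(2, F) => (x : Matrix (Fin 2) (Fin 2) F)) hu
  simp only [Matrix.SpecialLinearGroup.coe_mul, Matrix.SpecialLinearGroup.coe_neg,
    Matrix.SpecialLinearGroup.coe_one] at e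
  have e00 := congrFun (congrFun e 0) 0
  have e01 := congrFun (congrFun e 0) 1
  have e10 := congrFun (congrFun e 1) 0
  have e11 := congrFun (congrFun e 1) 1
  simp [Matrix.mul_apply, Fin.sum_univ_two] at e00 e01 e10 e11
  have hd := det_entries u
  have htr : u 1 1 = -u 0 0 := by
    linear_combination (u 1 1) * e00 + (u 1 1) * hd - (u 1 0) * e01 - (u 0 0 + u 1 1) * hd
  rw [hgi, mul_neg]
  have hneg : ∀ x : SL(2, F), -x * -x = x * x := fun x => neg_mul_neg x x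
  rw [hneg]
  rcases hg with rfl | rfl <;> rcases hF (u 0 0) with a | a | a <;> rcases hF (u 0 1) with b | b | b <;>
    rcases hF (u 1 0) with c | c | c <;> rw [a, b, c] at e00 <;> rw [a] at htr <;>
    first
    | (refine Or.inl ?_; apply Subtype.ext; ext i j
       fin_cases i <;> fin_cases j <;>
         simp [Matrix.SpecialLinearGroup.coe_mul, iMat_coe, jMat_coe, Matrix.mul_apply, Fin.sum_univ_two,
           a, b, c, htr] <;> first | ring1 | linear_combination h3 | linear_combination -h3)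
    | (refine Or.inr (Or.inl ?_); apply Subtype.ext; ext i j
       fin_cases i <;> fin_cases j <;>
         simp [Matrix.SpecialLinearGroup.coe_mul, iMat_coe, jMat_coe, Matrix.mul_apply, Fin.sum_univ_two,
           a, b, c, htr] <;> first | ring1 | linear_combination h3 | linear_combination -h3)
    | (refine Or.inr (Or.inr ?_); apply Subtype.ext; ext i j
       fin_cases i <;> fin_cases j <;>
         simp [Matrix.SpecialLinearGroup.coe_mul, iMat_coe, jMat_coe, Matrix.mul_apply, Fin.sum_univ_two,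
           a, b, c, htr] <;> first | ring1 | linear_combination h3 | linear_combination -h3)
    | (exfalso
       first
       | exact one_ne_zero (α := F) (by linear_combination e00)
       | exact one_ne_zero (α := F) (by linear_combination -e00)
       | exact one_ne_zero (α := F) (by linear_combination h3 - e00)
       | exact one_ne_zero (α := F) (by linear_combination e00 + h3))

namespace Exc

variable {G : Type*} [Group G] [Finite G] {T : Sylow 3 G} {E : Subgroup G}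
  (D : Exc T E F)

local notation "𝐏" => pCore 3 G
local notation "𝐕" => omegaOneCenter 3 (pCore 3 G)
local notation "𝐗" => modX 3 E
local notation "𝐐" => pCoreOf 3 E
local notation "𝐖" => omegaOneCenter 3 (pCoreOf 3 E)
local notation "𝐙" => (omegaOneCenter 3 (pCoreOf 3 E) ⊓ centralizer (E : Set G))
local notation "𝐂" => centralizer (modX 3 E : Set G)
local notation "𝐒" => (pCoreOf 3 E ⊔ omegaOneCenter 3 (pCore 3 G))

include D

/-- There is no element inverting `Q/W` next to an element not commuting with the block on `Q/W`. -/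
theorem false_of_neg_one {z c : G} (hz : z ∈ 𝐂) (hzQ : z ∈ normalizer (𝐐 : Set G))
    (hneg : ∀ y, D.actY z y = -y) (hc : c ∈ 𝐂) (hcQ : c ∈ normalizer (𝐐 : Set G))
    (hn : ¬ D.CommY c) : False := by
  obtain ⟨b, hbB, hb3, hbW, hbX⟩ := D.exists_quad
  have hbE := D.B_le_normE hbB
  have hbQ := normE_le_Q hbE
  have hbX' := normE_le_X hbE
  refine D.nonquad b hbB hbW ?_
  rw [D.ZE]
  have hqY := D.quadY hbE hb3 hbX
  have hzY : ∀ v, D.actY z⁻¹ v = -v := fun v => by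
    obtain ⟨u, rfl⟩ : ∃ u, v = D.actY z u := ⟨-v, by rw [hneg, neg_neg]⟩
    rw [← D.actY_mul (inv_mem hzQ) hzQ, inv_mul_cancel, D.actY_one, hneg, neg_neg]
  -- `z⁻¹ z^b` centralises `Q/Z`
  have hzb : ∀ a ∈ 𝐐, ⁅z⁻¹ * (b * z * b⁻¹), a⁆ ∈ 𝐙 := fun a ha => by
    have hbzb : b * z * b⁻¹ ∈ normalizer (𝐐 : Set G) := mul_mem (mul_mem hbQ hzQ) (inv_mem hbQ)
    refine D.comm_mem_Z_of_noncomm hc hcQ hn (D.trivY_of_actY
      (mul_mem (inv_mem hz) (conj_mem' (normX_le_C hbX') hz)) (mul_mem (inv_mem hzQ) hbzb) fun y => ?_) ha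
    rw [D.actY_mul (inv_mem hzQ) hbzb, D.actY_mul (mul_mem hbQ hzQ) (inv_mem hbQ),
      D.actY_mul hbQ hzQ, hneg, map_neg, D.actY_inv hbQ, hzY, neg_neg]
  have hnZ : ∀ {g}, g ∈ normalizer (𝐐 : Set G) → g ∈ normalizer ((𝐙 : Subgroup G) : Set G) :=
    fun hg => D.normQ_le_Z hg
  -- work in the abelian group `Q/Z`
  haveI hZn : ((𝐙 : Subgroup G).subgroupOf 𝐐).Normal := normal_subgroupOf_of_le_normalizer
    fun q hq => D.normQ_le_Z (le_normalizer hq)
  letI : CommGroup (↥𝐐 ⧸ ((𝐙 : Subgroup G).subgroupOf 𝐐)) :=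
    { (inferInstance : Group (↥𝐐 ⧸ ((𝐙 : Subgroup G).subgroupOf 𝐐))) with
      mul_comm := fun x y => by
        induction x using QuotientGroup.induction_on with
        | H x =>
          induction y using QuotientGroup.induction_on with
          | H y =>
            rw [← QuotientGroup.mk_mul, ← QuotientGroup.mk_mul, QuotientGroup.eq, mem_subgroupOf]
            have h := commutator_mem_commutator (inv_mem y.2) (inv_mem x.2)
            rw [D.der] at h
            convert h using 1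
            simp [commutatorElement_def, mul_assoc] }
  let mk := QuotientGroup.mk' ((𝐙 : Subgroup G).subgroupOf 𝐐)
  let μ : G → ↥𝐐 ⧸ ((𝐙 : Subgroup G).subgroupOf 𝐐) := fun a =>
    extend (fun q : ↥𝐐 => mk q) a
  have μmul : ∀ {a a'}, a ∈ 𝐐 → a' ∈ 𝐐 → μ (a * a') = μ a * μ a' := fun {a a'} ha ha' => by
    simp only [μ]
    rw [extend_apply _ ha, extend_apply _ ha', extend_apply _ (mul_mem ha ha'), ← map_mul]
    rfl
  have μker : ∀ {a}, a ∈ 𝐐 → (μ a = 1 ↔ a ∈ 𝐙) := fun {a} ha => by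
    simp only [μ]
    rw [extend_apply _ ha]
    exact (QuotientGroup.eq_one_iff _).trans mem_subgroupOf
  have μinv : ∀ {a}, a ∈ 𝐐 → μ a⁻¹ = (μ a)⁻¹ := fun {a} ha =>
    eq_inv_of_mul_eq_one_left (by rw [← μmul (inv_mem ha) ha, inv_mul_cancel, (μker (one_mem _)).2 (one_mem _)])
  have μcongr : ∀ {g a a'}, g ∈ normalizer (𝐐 : Set G) → a ∈ 𝐐 → a' ∈ 𝐐 → μ a = μ a' →
      μ (g * a * g⁻¹) = μ (g * a' * g⁻¹) := fun {g a a'} hg ha ha' h => by
    have h1 : a'⁻¹ * a ∈ 𝐙 := (μker (mul_mem (inv_mem ha') ha)).1 (by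
      rw [μmul (inv_mem ha') ha, μinv ha', h, inv_mul_cancel])
    have h2 := (μker (W_le_Q (normQ_le_Z_W (conj_mem' (hnZ hg) h1)))).2 (conj_mem' (hnZ hg) h1)
    rw [show g * a * g⁻¹ = g * a' * g⁻¹ * (g * (a'⁻¹ * a) * g⁻¹) by group,
      μmul (conj_mem' hg ha') (W_le_Q (conj_mem' (hnZ hg) h1).1), h2, mul_one]
  -- conjugation by `b` commutes with conjugation by `z` on `Q/Z`
  have hzbμ : ∀ {a}, a ∈ 𝐐 →
      μ (z * (b * a * b⁻¹) * z⁻¹) = μ (b * (z * a * z⁻¹) * b⁻¹) := fun {a} ha => by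
    set a' := b * a * b⁻¹ with ha'
    have haQ : a' ∈ 𝐐 := conj_mem' hbQ ha
    have hm := hzb a' haQ
    have e : b * (z * a * z⁻¹) * b⁻¹ = z * (⁅z⁻¹ * (b * z * b⁻¹), a'⁆ * a') * z⁻¹ := by
      rw [ha', commutatorElement_def]; group
    rw [e]
    refine μcongr hzQ haQ (mul_mem (W_le_Q hm.1) haQ) ?_
    rw [μmul (W_le_Q hm.1) haQ, (μker (W_le_Q hm.1)).2 hm, one_mul]
  have hf : ∀ {a}, a ∈ 𝐐 → ⁅a, b⁆ ∈ 𝐐 ∧ μ ⁅a, b⁆ = μ a * μ (b * a⁻¹ * b⁻¹) := fun {a} ha => by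
    have h : ⁅a, b⁆ = a * (b * a⁻¹ * b⁻¹) := by rw [commutatorElement_def]; group
    have hm := conj_mem' hbQ (inv_mem ha)
    rw [h]
    exact ⟨mul_mem ha hm, μmul ha hm⟩
  have hInv : ∀ {a}, a ∈ 𝐐 → μ (z * a * z⁻¹) = (μ a)⁻¹ →
      μ (z * ⁅a, b⁆ * z⁻¹) = (μ ⁅a, b⁆)⁻¹ := fun {a} ha hi => by
    have hza := conj_mem' hzQ ha
    have hai := inv_mem ha
    have hzai : μ (z * a⁻¹ * z⁻¹) = μ a := by
      rw [show z * a⁻¹ * z⁻¹ = (z * a * z⁻¹)⁻¹ by group, μinv hza, hi, inv_inv]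
    have h1 : μ (b * (z * a⁻¹ * z⁻¹) * b⁻¹) = μ (b * a * b⁻¹) :=
      μcongr hbQ (conj_mem' hzQ hai) ha hzai
    rw [(hf ha).2, show z * ⁅a, b⁆ * z⁻¹ = (z * a * z⁻¹) * (z * (b * a⁻¹ * b⁻¹) * z⁻¹) by
        rw [commutatorElement_def]; group,
      μmul hza (conj_mem' hzQ (conj_mem' hbQ hai)), hzbμ hai, h1, hi, mul_inv,
      show b * a⁻¹ * b⁻¹ = (b * a * b⁻¹)⁻¹ by group, μinv (conj_mem' hbQ ha), inv_inv]
  have hD2 : ∀ {a}, a ∈ 𝐐 → D.qc ⁅⁅a, b⁆, b⁆ = 0 := fun {a} ha => by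
    have h1 := (hf ha).1
    have hd : ∀ {a}, a ∈ 𝐐 → D.qc ⁅a, b⁆ = D.qc a - D.actY b (D.qc a) := fun {a} ha => by
      rw [commutatorElement_def, show a * b * a⁻¹ * b⁻¹ = a * (b * a⁻¹ * b⁻¹) by group,
        D.qc_mul ha (conj_mem' hbQ (inv_mem ha)), ← D.actY_qc hbQ (inv_mem ha), D.qc_inv ha, map_neg,
        sub_eq_add_neg]
    rw [hd h1, hd ha, map_sub, ← hqY (D.qc a), two_nsmul]
    abel
  have hW1 : ∀ {w}, w ∈ 𝐖 → ⁅⁅w, b⁆, b⁆ ∈ 𝐙 := fun {w} hw => by
    obtain ⟨x, hx, z', hz', rfl⟩ := D.W_dec hw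
    have hb1 : ∀ {z'}, z' ∈ 𝐙 → ⁅z', b⁆ ∈ 𝐙 := fun {z'} hz' => by
      rw [commutatorElement_def, show z' * b * z'⁻¹ * b⁻¹ = z' * (b * z'⁻¹ * b⁻¹) by group]
      exact mul_mem hz' (conj_mem' (hnZ hbQ) (inv_mem hz'))
    have hx1 : ⁅x, b⁆ ∈ 𝐗 := by
      rw [commutatorElement_def, show x * b * x⁻¹ * b⁻¹ = x * (b * x⁻¹ * b⁻¹) by group]
      exact mul_mem hx (conj_mem' hbX' (inv_mem hx))
    rw [comm_mul_left_central (D.W_comm (hb1 hz').1 (W_le_Q (D.X_le_W hx))),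
      comm_mul_left_central (D.W_comm (D.X_le_W (show ⁅⁅x, b⁆, b⁆ ∈ 𝐗 by rw [hbX x hx]; exact one_mem _))
        (W_le_Q (hb1 hz').1)), hbX x hx, one_mul]
    exact hb1 (hb1 hz')
  have hkey : ∀ q ∈ 𝐐, ⁅⁅q, b⁆, b⁆ ∈ 𝐙 := by
    intro q hq
    have hzq := conj_mem' hzQ hq
    set w := q * (z * q * z⁻¹) with hw
    have hwW : w ∈ 𝐖 := by
      rw [hw, ← D.qc_ker (mul_mem hq hzq), D.qc_mul hq hzq, ← D.actY_qc hzQ hq, hneg, add_neg_cancel]
    have hzw : ∀ {w}, w ∈ 𝐖 → μ (z * w * z⁻¹) = μ w := fun {w} hw => by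
      have h := conj_mem' (normQ_le_W hzQ) hw
      have h0 : ⁅z, w⁆ ∈ 𝐙 := by
        have hm : ⁅z, w⁆ ∈ 𝐖 := by rw [commutatorElement_def]; exact mul_mem h (inv_mem hw)
        refine (D.px_eq_zero hm).1 ?_
        rw [commutatorElement_def, D.px_mul h (inv_mem hw),
          D.px_conj (centralizer_le_normalizer _ hz) hzQ hw, D.actX_C hz, D.px_inv hw, add_neg_cancel]
      rw [show z * w * z⁻¹ = ⁅z, w⁆ * w by rw [commutatorElement_def]; group,
        μmul (W_le_Q h0.1) (W_le_Q hw), (μker (W_le_Q h0.1)).2 h0, one_mul]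
    set n := q * w with hn'
    have hnQ : n ∈ 𝐐 := mul_mem hq (W_le_Q hwW)
    have hμw : μ (z * q * z⁻¹) = (μ q)⁻¹ * μ w := by
      rw [hw, μmul hq hzq, inv_mul_cancel_left]
    have hw3 : μ w * μ w * μ w = 1 := by
      rw [← μmul (W_le_Q hwW) (W_le_Q hwW), ← μmul (W_le_Q (mul_mem hwW hwW)) (W_le_Q hwW),
        ← sq, ← pow_succ, (LAE65.Block.isElementaryAbelian_omegaOneCenter 𝐐).2 w hwW,
        (μker (one_mem _)).2 (one_mem _)]
    have hni : μ (z * n * z⁻¹) = (μ n)⁻¹ := by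
      rw [show z * n * z⁻¹ = (z * q * z⁻¹) * (z * w * z⁻¹) by rw [hn']; group,
        μmul hzq (conj_mem' hzQ (W_le_Q hwW)), hμw, hzw hwW, hn', μmul hq (W_le_Q hwW),
        eq_inv_iff_mul_eq_one]
      calc (μ q)⁻¹ * μ w * μ w * (μ q * μ w) = μ w * μ w * μ w := by
            rw [mul_mul_mul_comm ((μ q)⁻¹ * μ w) (μ w) (μ q) (μ w), mul_right_comm (μ q)⁻¹ (μ w) (μ q),
              inv_mul_cancel, one_mul, mul_assoc]
        _ = 1 := hw3
    have hm : ⁅⁅n, b⁆, b⁆ ∈ 𝐙 := by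
      have h1 := (hf hnQ).1
      have h2 := (hf h1).1
      have hW2 : ⁅⁅n, b⁆, b⁆ ∈ 𝐖 := (D.qc_ker h2).1 (hD2 hnQ)
      have hi2 := hInv h1 (hInv hnQ hni)
      rw [hzw hW2, eq_inv_iff_mul_eq_one, ← μmul h2 h2] at hi2
      have h6 := mul_mem (pow_mem hW2 0) hW2
      have h3 : ⁅⁅n, b⁆, b⁆ ^ 3 = 1 := (LAE65.Block.isElementaryAbelian_omegaOneCenter 𝐐).2 _ hW2
      have h4 := (μker (mul_mem h2 h2)).1 hi2
      rw [← sq, show ⁅⁅n, b⁆, b⁆ ^ 2 = ⁅⁅n, b⁆, b⁆⁻¹ from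
        eq_inv_of_mul_eq_one_left (by rw [← pow_succ]; exact h3)] at h4
      exact inv_mem_iff.1 h4
    have hq' : q = n * w⁻¹ := by rw [hn']; group
    have hmul2 : ∀ {a a'}, a ∈ 𝐐 → a' ∈ 𝐐 → μ ⁅a * a', b⁆ = μ ⁅a, b⁆ * μ ⁅a', b⁆ :=
      fun {a a'} ha ha' => by
      rw [(hf (mul_mem ha ha')).2, (hf ha).2, (hf ha').2, μmul ha ha',
        show b * (a * a')⁻¹ * b⁻¹ = (b * a'⁻¹ * b⁻¹) * (b * a⁻¹ * b⁻¹) by group,
        μmul (conj_mem' hbQ (inv_mem ha')) (conj_mem' hbQ (inv_mem ha)),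
        mul_comm (μ (b * a'⁻¹ * b⁻¹)), mul_mul_mul_comm]
    have hcongr : ∀ {a a'}, a ∈ 𝐐 → a' ∈ 𝐐 → μ a = μ a' → μ ⁅a, b⁆ = μ ⁅a', b⁆ := fun {a a'} ha ha' h => by
      rw [(hf ha).2, (hf ha').2, h, μcongr hbQ (inv_mem ha) (inv_mem ha') (by rw [μinv ha, μinv ha', h])]
    have hwi := inv_mem (W_le_Q hwW)
    have h1 := (hf hnQ).1
    have h1' := (hf hwi).1
    refine (μker (hf (hf hq).1).1).1 ?_
    rw [hcongr (hf hq).1 (mul_mem h1 h1') (by rw [μmul h1 h1', ← hmul2 hnQ hwi, ← hq']), hmul2 h1 h1',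
      (μker (hf h1).1).2 hm, (μker (hf h1').1).2 (hW1 (inv_mem hwW)), one_mul]
  -- from `b` to the cyclic subgroup
  let K : Subgroup G :=
    { carrier := {a | a ∈ 𝐐 ∧ ⁅a, b⁆ ∈ 𝐙}
      one_mem' := ⟨one_mem _, by rw [commutatorElement_one_left]; exact one_mem _⟩
      mul_mem' := fun {a a'} ha ha' => ⟨mul_mem ha.1 ha'.1, by
        rw [comm_mul_left_central (D.W_comm ha'.2.1 ha.1)]
        exact mul_mem ha'.2 ha.2⟩
      inv_mem' := fun {a} ha => ⟨inv_mem ha.1, by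
        rw [show ⁅a⁻¹, b⁆ = a⁻¹ * ⁅a, b⁆⁻¹ * a by simp only [commutatorElement_def]; group,
          D.W_comm (inv_mem ha.2.1) (inv_mem ha.1), inv_mul_cancel_right]
        exact inv_mem ha.2⟩ }
  have hKb : ∀ a ∈ K, b * a * b⁻¹ ∈ K := fun a ha => ⟨conj_mem' hbQ ha.1, by
    have h := conj_mem' (hnZ hbQ) ha.2
    rwa [conj_commutator, mul_inv_cancel_right] at h⟩
  have hpow : ∀ (A B : Subgroup G), (∀ x ∈ B, b * x * b⁻¹ ∈ B) → (∀ a ∈ A, ⁅a, b⁆ ∈ B) →
      ⁅A, zpowers b⁆ ≤ B := by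
    intro A B hB hA
    refine commutator_le.2 fun a ha g hg => ?_
    obtain ⟨i, rfl⟩ := (isOfFinOrder_of_finite b).mem_powers_iff_mem_zpowers.2 hg
    induction i with
    | zero => simp only [pow_zero, commutatorElement_one_right]; exact one_mem _
    | succ i ih =>
      have e : ⁅a, b ^ (i + 1)⁆ = ⁅a, b⁆ * (b * ⁅a, b ^ i⁆ * b⁻¹) := by
        rw [pow_succ']; simp only [commutatorElement_def]; group
      show ⁅a, b ^ (i + 1)⁆ ∈ B
      rw [e]
      exact mul_mem (hA a ha) (hB _ (ih ((isOfFinOrder_of_finite b).mem_powers_iff_mem_zpowers.1 ⟨i, rfl⟩)))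
  refine hpow _ _ (fun x hx => conj_mem' (hnZ hbQ) hx) fun a ha => ?_
  exact (hpow 𝐐 K hKb (fun a ha => ⟨(hf ha).1, hkey a ha⟩) ha).2
where
  normQ_le_Z_W {a : G} (ha : a ∈ 𝐙) : a ∈ 𝐖 := ha.1

/-- Elements centralising `X` and normalising `Q` commute with the block on `Q/W`. -/
theorem commY {c : G} (hc : c ∈ 𝐂) (hcQ : c ∈ normalizer (𝐐 : Set G)) : D.CommY c := by
  by_contra hn
  -- a witness, of a special form over the prime field
  obtain ⟨e, he, hside, hne⟩ : ∃ e ∈ E,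
      ((∃ a : F, a ≠ 0 ∧ a ^ 2 ≠ 1) ∨
        ((∀ t : F, t = 0 ∨ t = 1 ∨ t = -1) ∧ (D.s e = iMat ∨ D.s e = jMat D.h3))) ∧
      ¬ ∀ y, D.actY c (act (D.s e) y) = act (D.s e) (D.actY c y) := by
    by_cases hbig : ∃ a : F, a ≠ 0 ∧ a ^ 2 ≠ 1
    · obtain ⟨e, he, h⟩ : ∃ e ∈ E, ¬ ∀ y, D.actY c (act (D.s e) y) = act (D.s e) (D.actY c y) := by
        by_contra h; push Not at h; exact hn h
      exact ⟨e, he, Or.inl hbig, h⟩
    · push Not at hbig
      have hF : ∀ t : F, t = 0 ∨ t = 1 ∨ t = -1 := fun t => by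
        by_cases h0 : t = 0
        · exact Or.inl h0
        · exact Or.inr (sq_eq_one_iff.1 (hbig t h0))
      obtain ⟨ei, hei, hi⟩ := D.s_surj iMat (iMat_mem D.h3)
      obtain ⟨ej, hej, hj⟩ := D.s_surj (jMat D.h3) (jMat_mem D.h3)
      by_contra h
      push Not at h
      apply hn
      have h1 := h ei hei (Or.inr ⟨hF, Or.inl hi⟩)
      have h2 := h ej hej (Or.inr ⟨hF, Or.inr hj⟩)
      rw [hi] at h1
      rw [hj] at h2
      obtain ⟨lam, hlam⟩ := exists_scalar_small D.h3 hF (D.actY c) h1 h2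
      intro e he y
      rw [hlam, hlam, act_smul]
  have heQ := normE_le_Q (le_normalizer he)
  set c' := c * e * c⁻¹ with hc'
  have hc'Q : c' ∈ normalizer (𝐐 : Set G) := mul_mem (mul_mem hcQ heQ) (inv_mem hcQ)
  set k := ⁅c, e⁆ with hk
  have hkc' : k = c' * e⁻¹ := by rw [hk, hc', commutatorElement_def]
  have hkC : k ∈ 𝐂 := by
    rw [hk, commutatorElement_def, show c * e * c⁻¹ * e⁻¹ = c * (e * c⁻¹ * e⁻¹) by group]
    exact mul_mem hc (conj_mem' (normX_le_C (normE_le_X (le_normalizer he))) (inv_mem hc))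
  have hkQ : k ∈ normalizer (𝐐 : Set G) := hkc' ▸ mul_mem hc'Q (inv_mem heQ)
  have hkZ : ∀ w ∈ 𝐙, k * w * k⁻¹ = w := fun w hw => by
    have h1 : e⁻¹ * w * e⁻¹⁻¹ = w := D.Z_cent hw (inv_mem he)
    have h2 : e * (c⁻¹ * w * c⁻¹⁻¹) * e⁻¹ = c⁻¹ * w * c⁻¹⁻¹ :=
      D.Z_cent (conj_mem' (D.normQ_le_Z (inv_mem hcQ)) hw) he
    calc k * w * k⁻¹ = c * (e * (c⁻¹ * (e⁻¹ * w * e⁻¹⁻¹) * c⁻¹⁻¹) * e⁻¹) * c⁻¹ := by
          rw [hk, commutatorElement_def]; group
      _ = c * (c⁻¹ * w * c⁻¹⁻¹) * c⁻¹ := by rw [h1, h2]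
      _ = w := by group
  obtain ⟨h, hh⟩ := exists_SL_of_det2 (D.actY k) fun y z => by
    obtain ⟨q, hq, rfl⟩ := D.qc_surj y
    obtain ⟨q', hq', rfl⟩ := D.qc_surj z
    rw [D.actY_qc hkQ hq, D.actY_qc hkQ hq']
    refine D.κ_injective ?_
    rw [← D.pairing (conj_mem' hkQ hq) (conj_mem' hkQ hq'), ← conj_commutator,
      hkZ _ (D.der ▸ commutator_mem_commutator hq hq'), D.pairing hq hq']
  have hu : ∀ y, D.actY c' y = act (h * D.s e) y := fun y => by
    rw [act_mul, ← hh, ← D.actY_E he, ← D.actY_mul hkQ heQ, hkc', inv_mul_cancel_right]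
  have hc'c : ∀ y, D.actY c' (D.actY c y) = D.actY c (act (D.s e) y) := fun y => by
    rw [← D.actY_mul hc'Q hcQ, ← D.actY_E he, ← D.actY_mul hcQ heQ, hc', inv_mul_cancel_right]
  have hh1 : h ≠ 1 := fun h1 => hne fun y => by
    rw [← hc'c, hu, h1, one_mul]
  have h4 : (∃ a : F, a ≠ 0 ∧ a ^ 2 ≠ 1) ∨ h ^ 4 = 1 := by
    refine hside.imp id fun ⟨hF, hg⟩ => ?_
    have hgg : D.s e * D.s e = -1 := by
      rcases hg with hg | hg <;> rw [hg]
      exacts [iMat_sq, jMat_sq D.h3]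
    have hu2 : (h * D.s e) * (h * D.s e) = -1 := by
      have h' : -((h * D.s e) * (h * D.s e)) = 1 := act_eq_of_forall fun y => by
        obtain ⟨y', rfl⟩ : ∃ y', y = D.actY c y' := ⟨D.actY c⁻¹ y, (D.actY_inv hcQ y).symm⟩
        rw [show act (-((h * D.s e) * (h * D.s e))) (D.actY c y') =
          -act ((h * D.s e) * (h * D.s e)) (D.actY c y') from by
            funext i; simp [act_apply]; ring,
          act_mul, ← hu, ← hu, hc'c, hc'c, ← act_mul, hgg, act_neg_one, map_neg, neg_neg]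
      rw [← neg_neg ((h * D.s e) * (h * D.s e)), h']
    have := small_pow_four D.h3 hF hu2 hg
    rwa [mul_inv_cancel_right] at this
  let K : Subgroup SL(2, F) :=
    { carrier := {g | ∃ k ∈ 𝐂, k ∈ normalizer (𝐐 : Set G) ∧ ∀ y, D.actY k y = act g y}
      one_mem' := ⟨1, one_mem _, one_mem _, fun y => by rw [D.actY_one, act_one]⟩
      mul_mem' := by
        rintro g g' ⟨k, h1, h2, h3⟩ ⟨k', h1', h2', h3'⟩
        exact ⟨k * k', mul_mem h1 h1', mul_mem h2 h2', fun y => by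
          rw [D.actY_mul h2 h2', h3', h3, act_mul]⟩
      inv_mem' := by
        rintro g ⟨k, h1, h2, h3⟩
        refine ⟨k⁻¹, inv_mem h1, inv_mem h2, fun y => ?_⟩
        have := congrArg (act g⁻¹) (h3 (D.actY k⁻¹ y))
        rw [act_inv_act, D.actY_inv h2] at this
        exact this.symm }
  have hKn : ∀ g ∈ commutator SL(2, F), ∀ d ∈ K, g * d * g⁻¹ ∈ K := by
    rintro g hg d ⟨k, h1, h2, h3⟩
    obtain ⟨e', he', rfl⟩ := D.s_surj g hg
    have he'Q := normE_le_Q (le_normalizer he')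
    refine ⟨e' * k * e'⁻¹, conj_mem' (normX_le_C (normE_le_X (le_normalizer he'))) h1,
      mul_mem (mul_mem he'Q h2) (inv_mem he'Q), fun y => ?_⟩
    rw [D.actY_mul (mul_mem he'Q h2) (inv_mem he'Q), D.actY_mul he'Q h2, D.actY_E he', h3,
      D.actY_E (inv_mem he'), D.s_inv he', act_mul, act_mul]
  obtain ⟨z, hz, hzQ, hzn⟩ := neg_one_mem_of_normalized D.h3 K hKn (h := h) ⟨k, hkC, hkQ, hh⟩ hh1 h4
  exact D.false_of_neg_one hz hzQ (fun y => by rw [hzn, act_neg_one]) hc hcQ hn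

/-- Elements centralising `X` and normalising `Q` normalise the block. -/
theorem mem_normE_of_normQ {c : G} (hc : c ∈ 𝐂) (hcQ : c ∈ normalizer (𝐐 : Set G)) :
    c ∈ normalizer (E : Set G) := by
  have hcS : c ∈ normalizer ((𝐒 : Subgroup G) : Set G) :=
    LocalEven62.le_normalizer_sup (H := 𝐐) (L := normalizer (𝐐 : Set G)) le_rfl (fun g _ => mem_normV g) hcQ
  have hcX := centralizer_le_normalizer _ hc
  have hB := D.B_le_normE
  have hS : normalizer (E : Set G) ≤ normalizer ((𝐒 : Subgroup G) : Set G) :=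
    fun g hg => D.mem_normS_of_normE hg
  refine mem_normalizer_of_comm D.hG D.hE (l := [𝐏, 𝐒, 𝐕, 𝐗, ⊥]) ?_ rfl rfl ?_ ?_ fun e he =>
    ⟨?_, ⟨mem_normV _, fun s hs => ?_⟩, ?_, ?_, trivial⟩
  · simp [D.S_le_P, V_le_P, D.X_le_V.trans V_le_P]
  · simp only [List.forall_mem_cons, List.not_mem_nil, false_imp_iff, implies_true, and_true]
    exact ⟨fun g _ => mem_normP g, le_normalizer.trans hS, fun g _ => mem_normV g,
      le_normalizer.trans normE_le_X, by rw [normalizer_bot_eq_top]; exact le_top⟩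
  · simp only [List.forall_mem_cons, List.not_mem_nil, false_imp_iff, implies_true, and_true]
    exact ⟨fun g _ => mem_normP g, hB.trans hS, fun g _ => mem_normV g, hB.trans normE_le_X,
      by rw [normalizer_bot_eq_top]; exact le_top⟩
  · exact comm_mem_centMod (mem_normP c) hcS
      ⟨hS (le_normalizer he), fun u hu => mem_sup_left (D.comm_mem_Q he hu)⟩
  · obtain ⟨q, hq, v, hv, rfl⟩ := D.S_dec hs
    have heQ := normE_le_Q (le_normalizer he)
    set k := ⁅c, e⁆ with hk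
    have hkQ : k ∈ normalizer (𝐐 : Set G) := by
      rw [hk, commutatorElement_def]
      exact mul_mem (mul_mem (mul_mem hcQ heQ) (inv_mem hcQ)) (inv_mem heQ)
    have hqk : ⁅k, q⁆ ∈ 𝐖 := by
      have h' := conj_mem' hkQ hq
      rw [commutatorElement_def, ← D.qc_ker (mul_mem h' (inv_mem hq)), D.qc_mul h' (inv_mem hq),
        ← D.actY_qc hkQ hq, D.qc_inv hq, ← sub_eq_add_neg, sub_eq_zero]
      rw [hk, commutatorElement_def, D.actY_mul (mul_mem (mul_mem hcQ heQ) (inv_mem hcQ)) (inv_mem heQ),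
        D.actY_mul (mul_mem hcQ heQ) (inv_mem hcQ), D.actY_mul hcQ heQ, D.actY_E he,
        D.commY hc hcQ e he, D.actY_inv hcQ, D.actY_E (inv_mem he), D.s_inv he, ← act_mul, mul_inv_cancel,
        act_one]
    rw [commutator_mul_right, commutatorElement_def k v]
    refine mul_mem (D.W_le hqk) (conj_mem' (mem_normV q) (mul_mem (conj_mem' (mem_normV k) hv) (inv_mem hv)))
  · exact comm_mem_centMod (mem_normV c) hcX
      ⟨normE_le_X (le_normalizer he), fun w hw => D.comm_E_V he hw⟩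
  · refine comm_mem_centMod' (normE_le_X (le_normalizer he)) (by rw [normalizer_bot_eq_top]; trivial)
      ⟨by rw [normalizer_bot_eq_top]; trivial, fun x hx => ?_⟩
    rw [mem_bot, commutatorElement_eq_one_iff_mul_comm]
    exact (mem_centralizer_iff.1 hc x hx).symm

end Exc

end Cfsg.Agent.LAE62
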