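import Cfsg.Agent.LAE62.ExcScalar

/-!
The centralizer of the module of an exceptional block normalises the block.
-/

set_option autoImplicit false
set_option linter.unusedSectionVars false
set_option linter.unusedVariables false
set_option linter.style.haveILetI false

open Subgroup Cfsg
open scoped commutatorElement MatrixGroups IsMulCommutative
open Cfsg.Agent.PushUp62 (centMod commutator_mem_symm conj_commutator le_normalizer_of_conj
  commutator_mul_left commutator_mul_right mem_sup_of_le_normalizer conj_mem_of_le_normalizer')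

namespace Cfsg.Agent.LAE62

attribute [local instance] omegaPCore_comm omegaPCore_normal

namespace Exc

variable {G : Type*} [Group G] [Finite G] {T : Sylow 3 G} {E : Subgroup G} {F : Type} [Field F]
  (D : Exc T E F)

local notation "𝐏" => pCore 3 G
local notation "𝐕" => omegaOneCenter 3 (pCore 3 G)
local notation "𝐗" => modX 3 E
local notation "𝐐" => pCoreOf 3 E
local notation "𝐖" => omegaOneCenter 3 (pCoreOf 3 E)
local notation "𝐂" => centralizer (modX 3 E : Set G)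
local notation "𝐔" => spanU E
local notation "𝐒" => (pCoreOf 3 E ⊔ omegaOneCenter 3 (pCore 3 G))
local notation "π₀" => QuotientGroup.mk' (omegaOneCenter 3 (pCore 3 G))

include D

/-- The fixed part of a conjugate of `τ` over a point of `Q/W`. -/
noncomputable def fixr (c : G) (y : Fin 2 → F) : G :=
  (c * D.τ * c⁻¹) * D.qlift y * (c * D.τ * c⁻¹)⁻¹ * D.qlift y

theorem pi_conj_τ' {c q : G} (hc : c ∈ 𝐂) (hq : q ∈ 𝐐) :
    D.pi ((c * D.τ * c⁻¹) * q * (c * D.τ * c⁻¹)⁻¹) = -D.qc q := by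
  obtain ⟨a, ha⟩ := D.exists_scalar_τ' hc
  rw [ha q hq, D.scalar_eq_neg_one hc ha, neg_smul, one_smul]

theorem fixr_mem {c : G} (hc : c ∈ 𝐂) (y : Fin 2 → F) : D.fixr c y ∈ 𝐔 :=
  mul_mem (conj_mem' (D.τ'_normU hc) (Q_le_U (D.qlift_mem y))) (Q_le_U (D.qlift_mem y))

theorem pi_fixr {c : G} (hc : c ∈ 𝐂) (y : Fin 2 → F) : D.pi (D.fixr c y) = 0 := by
  rw [fixr, D.pi_mul (D.U_le_P (conj_mem' (D.τ'_normU hc) (Q_le_U (D.qlift_mem y))))
    (D.Q_le (D.qlift_mem y)), D.pi_conj_τ' hc (D.qlift_mem y), D.pi_qlift, D.qc_qlift, neg_add_cancel]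

theorem mk_conj_τ'_jv {c : G} (hc : c ∈ 𝐂) (y : Fin 2 → F) :
    π₀ (c * D.τ * c⁻¹) * D.jv y * (π₀ (c * D.τ * c⁻¹))⁻¹ = π₀ (D.fixr c y) * (D.jv y)⁻¹ := by
  rw [fixr, jv, map_mul _ _ (D.qlift y), mul_inv_cancel_right, map_mul _ _ (c * D.τ * c⁻¹)⁻¹, map_inv,
    map_mul _ _ (D.qlift y)]

theorem mk_fixr_comm {c : G} (hc : c ∈ 𝐂) (y : Fin 2 → F) {u : G} (hu : u ∈ 𝐔) :
    π₀ (D.fixr c y) * π₀ u = π₀ u * π₀ (D.fixr c y) :=
  D.mk_comm (D.fixr_mem hc y) (D.U_le_P hu)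

theorem mk_conj_τ'_fixr {c : G} (hc : c ∈ 𝐂) (y : Fin 2 → F) :
    π₀ (c * D.τ * c⁻¹) * π₀ (D.fixr c y) * (π₀ (c * D.τ * c⁻¹))⁻¹ = π₀ (D.fixr c y) := by
  set t := π₀ (c * D.τ * c⁻¹) with ht
  have h2 : t * t = 1 := by rw [ht, ← map_mul, D.τ'_sq, map_one]
  have h := D.mk_conj_τ'_jv hc y
  rw [← ht] at h
  have e : π₀ (D.fixr c y) = t * D.jv y * t⁻¹ * D.jv y := by rw [h, inv_mul_cancel_right]
  have hcm : D.jv y * (t * D.jv y * t⁻¹) = (t * D.jv y * t⁻¹) * D.jv y := by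
    rw [h, ← mul_assoc, show D.jv y * π₀ (D.fixr c y) = π₀ (D.fixr c y) * D.jv y from
      (D.mk_fixr_comm hc y (Q_le_U (D.qlift_mem y))).symm]
    group
  rw [e, show t * (t * D.jv y * t⁻¹ * D.jv y) * t⁻¹ = (t * t) * D.jv y * (t * t)⁻¹ * (t * D.jv y * t⁻¹) by
    group, h2, one_mul, inv_one, mul_one, hcm]

/-- Elements inverted by a conjugate of `τ` modulo `V` come from `Q`. -/
theorem exists_of_negated {c u : G} (hc : c ∈ 𝐂) (hu : u ∈ 𝐔)
    (h : π₀ (c * D.τ * c⁻¹) * π₀ u * (π₀ (c * D.τ * c⁻¹))⁻¹ = (π₀ u)⁻¹) :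
    ∃ q ∈ 𝐐, π₀ (c⁻¹ * u * c) = π₀ q := by
  set u0 := c⁻¹ * u * c with hu0
  have hu0U : u0 ∈ 𝐔 := by
    have := conj_mem' (mem_normU_of_C (E := E) (inv_mem hc)) hu
    rwa [inv_inv] at this
  obtain ⟨q, hq, e, he⟩ := D.exists_dec (D.U_le_P hu0U)
  set f := q⁻¹ * u0 with hf
  have hfU : f ∈ 𝐔 := mul_mem (inv_mem (Q_le_U hq)) hu0U
  refine ⟨q, hq, ?_⟩
  have hτ0 : π₀ D.τ * π₀ u0 * (π₀ D.τ)⁻¹ = (π₀ u0)⁻¹ := by
    rw [hu0]
    simp only [map_mul, map_inv] at h ⊢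
    calc _ = (π₀ c)⁻¹ * (π₀ c * π₀ D.τ * (π₀ c)⁻¹ * π₀ u * (π₀ c * π₀ D.τ * (π₀ c)⁻¹)⁻¹) * π₀ c := by
          group
      _ = _ := by rw [h]; group
  have hu0f : π₀ u0 = π₀ q * π₀ f := by rw [← map_mul, hf]; group
  rw [hu0f, show π₀ D.τ * (π₀ q * π₀ f) * (π₀ D.τ)⁻¹ =
    (π₀ D.τ * π₀ q * (π₀ D.τ)⁻¹) * (π₀ D.τ * π₀ f * (π₀ D.τ)⁻¹) by group, D.mk_conj_τ_Q hq,
    D.mk_conj_E_of_pi D.τ_mem (D.U_le_P hfU) he, mul_inv_rev] at hτ0
  have hcm : (π₀ f)⁻¹ * (π₀ q)⁻¹ = (π₀ q)⁻¹ * (π₀ f)⁻¹ := by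
    rw [← mul_inv_rev, ← mul_inv_rev, D.mk_comm hfU (D.Q_le hq)]
  rw [hcm] at hτ0
  have h2 : π₀ f = (π₀ f)⁻¹ := mul_left_cancel hτ0
  have h3 := D.mk_cube hfU
  have hf1 : π₀ f = 1 := by
    rw [pow_succ, sq, show π₀ f * π₀ f = 1 by nth_rw 2 [h2]; exact mul_inv_cancel _, one_mul] at h3
    exact h3
  rw [hu0f, hf1, mul_one]

theorem negated_pair {c : G} (hc : c ∈ 𝐂) (y : Fin 2 → F) :
    π₀ (c * D.τ * c⁻¹) * π₀ (D.qlift y * D.fixr c y) * (π₀ (c * D.τ * c⁻¹))⁻¹ =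
      (π₀ (D.qlift y * D.fixr c y))⁻¹ := by
  have h1 := D.mk_conj_τ'_jv hc y
  have h2 := D.mk_conj_τ'_fixr hc y
  have h3 := D.mk_fixr_comm hc y (Q_le_U (D.qlift_mem y))
  have h4 := D.mk_cube (D.fixr_mem hc y)
  simp only [jv] at h1
  rw [map_mul _ (D.qlift y)]
  set t := π₀ (c * D.τ * c⁻¹)
  set r := π₀ (D.fixr c y)
  set j := π₀ (D.qlift y)
  calc t * (j * r) * t⁻¹ = (t * j * t⁻¹) * (t * r * t⁻¹) := by group
    _ = r * (j⁻¹ * r) := by rw [h1, h2, mul_assoc]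
    _ = r * (r * j⁻¹) := by
      congr 1
      calc j⁻¹ * r = j⁻¹ * (r * j) * j⁻¹ := by group
        _ = _ := by rw [h3]; group
    _ = r ^ 3 * r⁻¹ * j⁻¹ := by rw [pow_succ, mul_inv_cancel_right, sq, mul_assoc]
    _ = (j * r)⁻¹ := by rw [h4, one_mul, mul_inv_rev]

/-- The conjugates of `Q` are given by the points and their fixed parts. -/
theorem exists_point {c q : G} (hc : c ∈ 𝐂) (hq : q ∈ 𝐐) :
    ∃ y, π₀ (c * q * c⁻¹) = π₀ (D.qlift y * D.fixr c y) := by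
  haveI := D.finite_F
  have hmem : ∀ y, D.qlift y * D.fixr c y ∈ 𝐔 := fun y =>
    mul_mem (Q_le_U (D.qlift_mem y)) (D.fixr_mem hc y)
  have hex : ∀ y, ∃ z, π₀ (c⁻¹ * (D.qlift y * D.fixr c y) * c) = D.jv z := fun y => by
    obtain ⟨q', hq', e⟩ := D.exists_of_negated hc (hmem y) (D.negated_pair hc y)
    exact ⟨D.qc q', by rw [e, D.jv_qc hq']⟩
  choose L hL using hex
  have hback : ∀ y, π₀ (D.qlift y * D.fixr c y) = π₀ c * D.jv (L y) * (π₀ c)⁻¹ := fun y => by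
    rw [← hL]; simp only [map_mul, map_inv]; group
  have hinj : Function.Injective L := fun y y' h => by
    have e : π₀ (D.qlift y * D.fixr c y) = π₀ (D.qlift y' * D.fixr c y') := by rw [hback, hback, h]
    have h2 := D.pi_mk (D.U_le_P (hmem y)) e
    rw [D.pi_mul (D.Q_le (D.qlift_mem _)) (D.U_le_P (D.fixr_mem hc _)),
      D.pi_mul (D.Q_le (D.qlift_mem _)) (D.U_le_P (D.fixr_mem hc _)), D.pi_qlift, D.pi_qlift,
      D.pi_fixr hc, D.pi_fixr hc, add_zero, add_zero] at h2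
    exact h2.symm
  obtain ⟨y, hy⟩ := Finite.injective_iff_surjective.1 hinj (D.qc q)
  exact ⟨y, by rw [hback, hy, D.jv_qc hq, map_mul, map_mul, map_inv]⟩

/-- An element inverted by a conjugate of `τ` is determined by its projection. -/
theorem negated_eq {c u : G} (hc : c ∈ 𝐂) (hu : u ∈ 𝐔)
    (h : π₀ (c * D.τ * c⁻¹) * π₀ u * (π₀ (c * D.τ * c⁻¹))⁻¹ = (π₀ u)⁻¹) :
    π₀ u = π₀ (D.qlift (D.pi u) * D.fixr c (D.pi u)) := by
  obtain ⟨q, hq, e⟩ := D.exists_of_negated hc hu h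
  obtain ⟨y, hy⟩ := D.exists_point hc hq
  have e' : π₀ u = π₀ (D.qlift y * D.fixr c y) := by
    rw [← hy, map_mul, map_mul, map_inv, ← e]
    simp only [map_mul, map_inv]; group
  have hp := D.pi_mk (D.U_le_P hu) e'
  rw [D.pi_mul (D.Q_le (D.qlift_mem _)) (D.U_le_P (D.fixr_mem hc _)), D.pi_qlift, D.pi_fixr hc,
    add_zero] at hp
  rw [← hp, e']

theorem mk_fixr_zero {c : G} (hc : c ∈ 𝐂) : π₀ (D.fixr c 0) = 1 := by
  have h := D.jv_zero
  rw [jv] at h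
  rw [fixr, map_mul, map_mul, map_mul, h, mul_one, mul_one, ← map_mul, mul_inv_cancel, map_one]

theorem bet_fixr_self {c : G} (hc : c ∈ 𝐂) (y z : Fin 2 → F) :
    D.bet (D.fixr c y) (D.fixr c z) = 0 := by
  set t := c * D.τ * c⁻¹ with ht
  have hq : ∀ y, D.qlift y ∈ 𝐐 := D.qlift_mem
  have hqU : ∀ y, D.qlift y ∈ 𝐔 := fun y => Q_le_U (hq y)
  have htq : ∀ y, t * D.qlift y * t⁻¹ ∈ 𝐔 := fun y => conj_mem' (D.τ'_normU hc) (hqU y)
  have h0 : ∀ y, D.pi (t * D.qlift y * t⁻¹) = -y := fun y => by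
    rw [D.pi_conj_τ' hc (hq y), D.qc_qlift]
  rw [fixr, fixr, ← ht, D.bet_mul_left (htq y) (hqU y)
    (D.U_le_P (mul_mem (htq z) (hqU z))), D.bet_mul_right (htq y) (htq z) (hqU z),
    D.bet_mul_right (hqU y) (htq z) (hqU z), D.bet_τ' hc (hqU y) (hqU z),
    D.bet_swap (hqU z) (D.U_le_P (htq y)), D.bet_pair (hq z) (D.U_le_P (htq y)),
    D.bet_pair (hq y) (D.U_le_P (htq z)), D.bet_pair (hq y) (D.Q_le (hq z)), h0, h0, D.pi_qlift,
    D.qc_qlift, D.qc_qlift, ← D.kb_neg, ← D.kb_add, ← D.kb_add, ← D.kb_add, ← D.kb_zero]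
  congr 1
  simp only [det2, Pi.neg_apply]
  ring

theorem mk_fixr_add {c : G} (hc : c ∈ 𝐂) (y z : Fin 2 → F) :
    π₀ (D.fixr c (y + z)) = π₀ (D.fixr c y) * π₀ (D.fixr c z) := by
  have e : ∀ y, π₀ (D.fixr c y) = π₀ (c * D.τ * c⁻¹) * D.jv y * (π₀ (c * D.τ * c⁻¹))⁻¹ * D.jv y :=
    fun y => by rw [D.mk_conj_τ'_jv hc, inv_mul_cancel_right]
  set a := π₀ (c * D.τ * c⁻¹) * D.jv y * (π₀ (c * D.τ * c⁻¹))⁻¹ with ha
  set b := π₀ (c * D.τ * c⁻¹) * D.jv z * (π₀ (c * D.τ * c⁻¹))⁻¹ with hb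
  have hcm : b * D.jv y = D.jv y * b := by
    rw [hb, jv, jv, ← map_inv, ← map_mul, ← map_mul]
    exact D.mk_comm (conj_mem' (D.τ'_normU hc) (Q_le_U (D.qlift_mem z))) (D.Q_le (D.qlift_mem y))
  rw [e, e, e, D.jv_add, ← ha, ← hb]
  calc _ = (a * b) * (D.jv y * D.jv z) := by rw [ha, hb]; group
    _ = a * (b * D.jv y) * D.jv z := by group
    _ = _ := by rw [hcm]; group

/-- The component on `Q` of the image of a fixed part under another conjugate of `τ`. -/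
noncomputable def cross (c₁ c₂ : G) (y : Fin 2 → F) : Fin 2 → F :=
  D.pi ((c₂ * D.τ * c₂⁻¹) * D.fixr c₁ y * (c₂ * D.τ * c₂⁻¹)⁻¹)

theorem bet_fixr_cross {c₁ c₂ : G} (h₁ : c₁ ∈ 𝐂) (h₂ : c₂ ∈ 𝐂) (y z : Fin 2 → F) :
    D.bet (D.fixr c₂ z) (D.fixr c₁ y) = D.kb (det2 z (D.cross c₁ c₂ y)) := by
  set t := c₂ * D.τ * c₂⁻¹ with ht
  have hr := D.fixr_mem h₁ y
  have hq := Q_le_U (E := E) (D.qlift_mem z)
  have htr : t * D.fixr c₁ y * t⁻¹ ∈ 𝐔 := conj_mem' (D.τ'_normU h₂) hr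
  have htq : t * D.qlift z * t⁻¹ ∈ 𝐔 := conj_mem' (D.τ'_normU h₂) hq
  have h := D.bet_τ' h₂ hq htr
  rw [D.bet_pair (D.qlift_mem z) (D.U_le_P htr), D.qc_qlift] at h
  have e : t * (t * D.fixr c₁ y * t⁻¹) * t⁻¹ = D.fixr c₁ y := by
    rw [show t * (t * D.fixr c₁ y * t⁻¹) * t⁻¹ = (t * t) * D.fixr c₁ y * (t * t)⁻¹ by group, D.τ'_sq]
    group
  rw [← ht, e] at h
  show D.bet _ _ = _
  rw [show D.fixr c₂ z = (t * D.qlift z * t⁻¹) * D.qlift z from rfl, D.bet_mul_left htq hq (D.U_le_P hr),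
    D.bet_pair (D.qlift_mem z) (D.U_le_P hr), D.pi_fixr h₁,
    show det2 (D.qc (D.qlift z)) (0 : Fin 2 → F) = 0 by simp [det2], D.kb_zero, add_zero, h]
  rfl

theorem conj_τ'_of_pi {c v : G} (hc : c ∈ 𝐂) (hv : v ∈ 𝐔) :
    π₀ ((c * D.τ * c⁻¹) * v * (c * D.τ * c⁻¹)⁻¹) * (π₀ v)⁻¹ =
      π₀ (D.qlift (D.pi ((c * D.τ * c⁻¹) * v * (c * D.τ * c⁻¹)⁻¹) - D.pi v) *
        D.fixr c (D.pi ((c * D.τ * c⁻¹) * v * (c * D.τ * c⁻¹)⁻¹) - D.pi v)) := by
  set t := c * D.τ * c⁻¹ with ht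
  have htv : t * v * t⁻¹ ∈ 𝐔 := conj_mem' (D.τ'_normU hc) hv
  have h := D.negated_eq hc (mul_mem htv (inv_mem hv)) ?_
  · rw [D.pi_mul (D.U_le_P htv) (inv_mem (D.U_le_P hv)), D.pi_inv (D.U_le_P hv), ← sub_eq_add_neg] at h
    rw [← map_inv, ← map_mul]
    exact h
  · have htt : π₀ t * π₀ t = 1 := by rw [← map_mul, D.τ'_sq, map_one]
    rw [← ht]
    generalize t = s at htt ⊢
    simp only [map_mul, map_inv, mul_inv_rev, inv_inv]
    calc π₀ s * (π₀ s * π₀ v * (π₀ s)⁻¹ * (π₀ v)⁻¹) * (π₀ s)⁻¹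
        = (π₀ s * π₀ s) * π₀ v * (π₀ s * π₀ s)⁻¹ * (π₀ s * (π₀ v)⁻¹ * (π₀ s)⁻¹) := by group
      _ = _ := by rw [htt]; group

/-- The fixed parts of two conjugates of `τ` are orthogonal. -/
theorem cross_eq_zero {c₁ c₂ : G} (h₁ : c₁ ∈ 𝐂) (h₂ : c₂ ∈ 𝐂) : ∀ y, D.cross c₁ c₂ y = 0 := by
  have hadd : ∀ y z, D.cross c₁ c₂ (y + z) = D.cross c₁ c₂ y + D.cross c₁ c₂ z := by
    intro y z
    have hU : ∀ w, (c₂ * D.τ * c₂⁻¹) * D.fixr c₁ w * (c₂ * D.τ * c₂⁻¹)⁻¹ ∈ 𝐏 := fun w =>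
      conj_mem' (mem_normP _) (D.U_le_P (D.fixr_mem h₁ w))
    simp only [cross]
    rw [← D.pi_mul (hU y) (hU z)]
    refine D.pi_mk (mul_mem (hU y) (hU z)) ?_
    simp only [map_mul, map_inv]
    rw [D.mk_fixr_add h₁]
    group
  -- the identity for an arbitrary pair
  have key : ∀ d ∈ 𝐂, ∀ y z, det2 (y + D.cross c₁ d y) (z + D.cross c₁ d z) = det2 y z := by
    intro d hd y z
    set η := D.cross c₁ d with hη
    set t := d * D.τ * d⁻¹ with ht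
    have hc : c₁⁻¹ * d ∈ 𝐂 := mul_mem (inv_mem h₁) hd
    have hm : ∀ y, D.qlift y * D.fixr c₁ y ∈ 𝐔 := fun y =>
      mul_mem (Q_le_U (D.qlift_mem y)) (D.fixr_mem h₁ y)
    obtain ⟨q, hq, eq⟩ := D.exists_of_negated h₁ (hm y) (D.negated_pair h₁ y)
    obtain ⟨q', hq', eq'⟩ := D.exists_of_negated h₁ (hm z) (D.negated_pair h₁ z)
    set u := c₁ * q * c₁⁻¹ with hu
    set u' := c₁ * q' * c₁⁻¹ with hu'
    have huU : u ∈ 𝐔 := conj_Q_mem_U h₁ hq
    have hu'U : u' ∈ 𝐔 := conj_Q_mem_U h₁ hq'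
    have hue : π₀ u = π₀ (D.qlift y * D.fixr c₁ y) := by
      rw [hu, map_mul, map_mul, ← eq]; simp only [map_mul, map_inv]; group
    have hu'e : π₀ u' = π₀ (D.qlift z * D.fixr c₁ z) := by
      rw [hu', map_mul, map_mul, ← eq']; simp only [map_mul, map_inv]; group
    have htu : t * u * t⁻¹ ∈ 𝐔 := conj_mem' (D.τ'_normU hd) huU
    -- the identity transported from `c₁⁻¹ d`
    have hid : D.bet u' (t * u * t⁻¹) + D.bet u' u = 0 := by
      set t' := c₁⁻¹ * d * D.τ * (c₁⁻¹ * d)⁻¹ with ht'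
      have htq : t' * q * t'⁻¹ ∈ 𝐔 := conj_mem' (D.τ'_normU hc) (Q_le_U hq)
      have h0 : D.bet q' ((t' * q * t'⁻¹) * q) = 0 := by
        rw [D.bet_mul_right (Q_le_U hq') htq (Q_le_U hq), D.bet_pair hq' (D.U_le_P htq),
          D.bet_pair hq' (D.Q_le hq), D.pi_conj_τ' hc hq, D.pi_Q hq, ← D.kb_add, ← D.kb_zero]
        congr 1
        simp only [det2, Pi.neg_apply]
        ring
      rw [D.bet_eq_zero (D.U_central (Q_le_U hq') (mul_mem (D.U_le_P htq) (D.Q_le hq)))] at h0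
      have h1 := conj_mem' (centralizer_le_normalizer _ h₁) h0
      rw [conj_commutator, show c₁ * ((t' * q * t'⁻¹) * q) * c₁⁻¹ = (t * u * t⁻¹) * u by
        rw [ht', ht, hu]; group, ← hu'] at h1
      rw [← D.bet_mul_right hu'U htu huU]
      exact (D.bet_eq_zero (D.U_central hu'U (mul_mem (D.U_le_P htu) (D.U_le_P huU)))).2 h1
    -- the image of `u`
    have hrd := D.fixr_mem hd (η y)
    have hqη := Q_le_U (E := E) (D.qlift_mem (η y))
    have h1y := D.fixr_mem h₁ y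
    have h1z := D.fixr_mem h₁ z
    have hqz := Q_le_U (E := E) (D.qlift_mem z)
    have hqy := Q_le_U (E := E) (D.qlift_mem y)
    have hdy := D.fixr_mem hd y
    set a1 := D.fixr d y * (D.qlift y)⁻¹ with ha1
    set a2 := D.qlift (η y) * D.fixr d (η y) * D.fixr c₁ y with ha2
    have ha1U : a1 ∈ 𝐔 := mul_mem hdy (inv_mem hqy)
    have ha2U : a2 ∈ 𝐔 := mul_mem (mul_mem hqη hrd) h1y
    have htue : π₀ (t * u * t⁻¹) = π₀ (a1 * a2) := by
      have e1 := D.mk_conj_τ'_jv hd y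
      have e2 := D.conj_τ'_of_pi hd h1y
      rw [D.pi_fixr h₁, sub_zero] at e2
      simp only [map_mul, map_inv, jv] at e1 e2
      simp only [ha1, ha2, hη, cross, map_mul, map_inv, hue, ht] at *
      rw [← e2, inv_mul_cancel_right, ← e1]
      group
    rw [D.bet_congr hu'U (mul_mem hqz h1z) htu (mul_mem ha1U ha2U) hu'e htue,
      D.bet_congr hu'U (mul_mem hqz h1z) huU (mul_mem hqy h1y) hu'e hue] at hid
    have hU1 := mul_mem ha1U ha2U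
    have hU2 := mul_mem hqy h1y
    rw [D.bet_mul_left hqz h1z (D.U_le_P hU1), D.bet_mul_left hqz h1z (D.U_le_P hU2),
      D.bet_pair (D.qlift_mem z) (D.U_le_P hU1), D.bet_pair (D.qlift_mem z) (D.U_le_P hU2),
      D.bet_mul_right h1z ha1U ha2U, ha1, D.bet_mul_right h1z hdy (inv_mem hqy), ha2,
      D.bet_mul_right h1z (mul_mem hqη hrd) h1y, D.bet_mul_right h1z hqη hrd,
      D.bet_mul_right h1z hqy h1y, D.bet_fixr_self h₁,
      D.bet_swap hdy (D.U_le_P h1z), D.bet_fixr_cross h₁ hd,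
      D.bet_swap hrd (D.U_le_P h1z), D.bet_fixr_cross h₁ hd,
      D.bet_swap (inv_mem hqy) (D.U_le_P h1z), D.bet_pair (inv_mem (D.qlift_mem y)) (D.U_le_P h1z),
      D.bet_swap hqη (D.U_le_P h1z), D.bet_pair (D.qlift_mem (η y)) (D.U_le_P h1z),
      D.bet_swap hqy (D.U_le_P h1z), D.bet_pair (D.qlift_mem y) (D.U_le_P h1z),
      D.pi_fixr h₁, D.qc_qlift] at hid
    rw [D.pi_mul (D.U_le_P (mul_mem hdy (inv_mem hqy))) (D.U_le_P (mul_mem (mul_mem hqη hrd) h1y)),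
      D.pi_mul (D.U_le_P hdy) (inv_mem (D.U_le_P hqy)),
      D.pi_mul (D.U_le_P (mul_mem hqη hrd)) (D.U_le_P h1y),
      D.pi_mul (D.U_le_P hqη) (D.U_le_P hrd), D.pi_mul (D.U_le_P hqy) (D.U_le_P h1y),
      D.pi_inv (D.U_le_P hqy), D.pi_fixr hd, D.pi_fixr hd, D.pi_fixr h₁, D.pi_qlift, D.pi_qlift] at hid
    simp only [← D.kb_neg, ← D.kb_add, add_zero, zero_add] at hid
    have := D.eq_zero_of_kb hid
    simp only [det2, Pi.add_apply, Pi.neg_apply, Pi.zero_apply, ← hη] at this ⊢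
    linear_combination -this
  -- twisting by the block
  refine eq_zero_of_isometries D.h3 (AddMonoidHom.mk' (D.cross c₁ c₂) hadd) fun g hg y z => ?_
  obtain ⟨e, he, rfl⟩ := D.s_surj g hg
  have heC : e * c₂ * e⁻¹ ∈ 𝐂 := conj_mem' (normX_le_C (normE_le_X (le_normalizer he))) h₂
  have hcr : ∀ y, D.cross c₁ (e * c₂ * e⁻¹) y = act (D.s e) (D.cross c₁ c₂ y) := fun y => by
    have hτe : e⁻¹ * D.τ * e ∈ E := mul_mem (mul_mem (inv_mem he) D.τ_mem) he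
    set q := D.τ * (e⁻¹ * D.τ * e) with hq
    have hqQ : q ∈ 𝐐 := by
      refine (D.s_ker (mul_mem D.τ_mem hτe)).1 ?_
      rw [D.s_mul D.τ_mem hτe, D.s_mul (mul_mem (inv_mem he) D.τ_mem) he,
        D.s_mul (inv_mem he) D.τ_mem, D.s_τ, D.s_inv he]
      simp
    set r := D.fixr c₁ y with hr
    have hrU := D.fixr_mem h₁ y
    have hrP := D.U_le_P hrU
    set u := c₂ * q * c₂⁻¹ with hu
    have huU : u ∈ 𝐔 := conj_Q_mem_U h₂ hqQ
    set t := c₂ * D.τ * c₂⁻¹ with ht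
    have htP : t * r * t⁻¹ ∈ 𝐏 := conj_mem' (mem_normP t) hrP
    show D.pi _ = act (D.s e) (D.pi (t * r * t⁻¹))
    rw [← D.pi_conj he htP]
    refine D.pi_mk (conj_mem' (mem_normP e) htP) ?_
    have e1 : e * c₂ * e⁻¹ * D.τ * (e * c₂ * e⁻¹)⁻¹ = e * (t * u) * e⁻¹ := by
      rw [ht, hu, hq]
      rw [show e * (c₂ * D.τ * c₂⁻¹ * (c₂ * (D.τ * (e⁻¹ * D.τ * e)) * c₂⁻¹)) * e⁻¹ =
        e * c₂ * (D.τ * D.τ) * (e⁻¹ * D.τ * e) * c₂⁻¹ * e⁻¹ by group, D.τ_sq]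
      group
    rw [← hr, e1]
    have hfix : (π₀ e)⁻¹ * π₀ r * π₀ e = π₀ r := by
      conv_lhs => rw [← D.mk_conj_E_of_pi he hrP (D.pi_fixr h₁ y)]
      group
      rfl
    simp only [map_mul, map_inv, mul_inv_rev, inv_inv]
    calc π₀ e * (π₀ t * π₀ r * (π₀ t)⁻¹) * (π₀ e)⁻¹
        = π₀ e * (π₀ t * (π₀ r * π₀ u * (π₀ u)⁻¹) * (π₀ t)⁻¹) * (π₀ e)⁻¹ := by group
      _ = π₀ e * (π₀ t * (π₀ u * ((π₀ e)⁻¹ * π₀ r * π₀ e) * (π₀ u)⁻¹) * (π₀ t)⁻¹) * (π₀ e)⁻¹ := by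
          rw [hfix, D.mk_comm hrU (D.U_le_P huU)]
      _ = _ := by group
  have h := key _ heC y z
  rw [hcr, hcr] at h
  exact h

theorem mk_conj_τ'_fixr' {c₁ c₂ : G} (h₁ : c₁ ∈ 𝐂) (h₂ : c₂ ∈ 𝐂) (y : Fin 2 → F) :
    π₀ ((c₂ * D.τ * c₂⁻¹) * D.fixr c₁ y * (c₂ * D.τ * c₂⁻¹)⁻¹) = π₀ (D.fixr c₁ y) := by
  have h := D.conj_τ'_of_pi h₂ (D.fixr_mem h₁ y)
  have hc := D.cross_eq_zero h₁ h₂ y
  simp only [cross] at hc
  rw [hc, D.pi_fixr h₁, sub_zero, map_mul _ (D.qlift 0), D.mk_fixr_zero h₂,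
    show π₀ (D.qlift 0) = 1 from D.jv_zero, one_mul, mul_inv_eq_one] at h
  exact h

/-- The subgroup generated by the fixed parts. -/
noncomputable def fixSpan : Subgroup G :=
  𝐕 ⊔ closure {u | ∃ c ∈ 𝐂, ∃ y, u = D.fixr c y}

theorem fixSpan_le_U : D.fixSpan ≤ 𝐔 :=
  sup_le V_le_U ((closure_le _).2 (by rintro _ ⟨c, hc, y, rfl⟩; exact D.fixr_mem hc y))

theorem pi_fixSpan {u : G} (hu : u ∈ D.fixSpan) : D.pi u = 0 := by
  let K : Subgroup G :=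
    { carrier := {u | u ∈ 𝐏 ∧ D.pi u = 0}
      one_mem' := ⟨one_mem _, D.pi_one⟩
      mul_mem' := fun {a b} ha hb => ⟨mul_mem ha.1 hb.1, by rw [D.pi_mul ha.1 hb.1, ha.2, hb.2, add_zero]⟩
      inv_mem' := fun {a} ha => ⟨inv_mem ha.1, by rw [D.pi_inv ha.1, ha.2, neg_zero]⟩ }
  have h : D.fixSpan ≤ K := sup_le (fun v hv => ⟨V_le_P hv, D.pi_V hv⟩) ((closure_le _).2 (by
    rintro _ ⟨c, hc, y, rfl⟩; exact ⟨D.U_le_P (D.fixr_mem hc y), D.pi_fixr hc y⟩))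
  exact (h hu).2

theorem mem_fixSpan {u : G} (hu : u ∈ 𝐔) (h0 : D.pi u = 0) : u ∈ D.fixSpan := by
  have hn : 𝐐 ≤ normalizer (D.fixSpan : Set G) := fun q hq => by
    refine LocalEven62.mem_normalizer_of_conj_mem fun x hx => ?_
    rw [show q * x * q⁻¹ = ⁅q, x⁆ * x by rw [commutatorElement_def]; group]
    exact mul_mem (mem_sup_left (D.U_central (Q_le_U hq) (D.U_le_P (D.fixSpan_le_U hx)))) hx
  have hle : 𝐔 ≤ 𝐐 ⊔ D.fixSpan := by
    refine U_le (fun v hv => mem_sup_right (mem_sup_left hv)) fun c hc q hq => ?_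
    obtain ⟨y, hy⟩ := D.exists_point hc hq
    have h1 := mk_eq_iff.1 hy.symm
    rw [show c * q * c⁻¹ =
      (D.qlift y * D.fixr c y) * ((D.qlift y * D.fixr c y)⁻¹ * (c * q * c⁻¹)) by group]
    exact mul_mem (mul_mem (mem_sup_left (D.qlift_mem y))
      (mem_sup_right (mem_sup_right (subset_closure ⟨c, hc, y, rfl⟩)))) (mem_sup_right (mem_sup_left h1))
  obtain ⟨q, hq, r, hr, rfl⟩ := mem_sup_of_le_normalizer hn (hle hu)
  rw [D.pi_mul (D.Q_le hq) (D.U_le_P (D.fixSpan_le_U hr)), D.pi_fixSpan hr, add_zero, D.pi_Q hq] at h0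
  exact mul_mem (mem_sup_left (D.W_le ((D.qc_ker hq).1 h0))) hr

theorem fixr_orth {c u : G} (hc : c ∈ 𝐂) (y : Fin 2 → F) (hu : u ∈ 𝐔) : ⁅D.fixr c y, u⁆ ∈ 𝐗 := by
  have hr := D.fixr_mem hc y
  let K : Subgroup G :=
    { carrier := {u | u ∈ 𝐔 ∧ D.bet (D.fixr c y) u = 0}
      one_mem' := ⟨one_mem _, by
        rw [D.bet_swap (one_mem _) (D.U_le_P hr), D.bet_V (one_mem _) (D.U_le_P hr), neg_zero]⟩
      mul_mem' := fun {a b} ha hb => ⟨mul_mem ha.1 hb.1, by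
        rw [D.bet_mul_right hr ha.1 hb.1, ha.2, hb.2, add_zero]⟩
      inv_mem' := fun {a} ha => ⟨inv_mem ha.1, by
        have h := D.bet_mul_right hr ha.1 (inv_mem ha.1)
        rw [mul_inv_cancel, ha.2, zero_add, D.bet_swap (one_mem _) (D.U_le_P hr),
          D.bet_V (one_mem _) (D.U_le_P hr), neg_zero] at h
        exact h.symm⟩ }
  have hle : 𝐔 ≤ K := by
    refine U_le (fun v hv => ⟨V_le_U hv, by
      rw [D.bet_swap (V_le_U hv) (D.U_le_P hr), D.bet_V hv (D.U_le_P hr), neg_zero]⟩) fun c' hc' q hq => ?_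
    refine ⟨conj_Q_mem_U hc' hq, ?_⟩
    obtain ⟨z, hz⟩ := D.exists_point hc' hq
    have hqz := Q_le_U (E := E) (D.qlift_mem z)
    rw [D.bet_congr hr hr (conj_Q_mem_U hc' hq) (mul_mem hqz (D.fixr_mem hc' z)) rfl hz,
      D.bet_mul_right hr hqz (D.fixr_mem hc' z), D.bet_swap hqz (D.U_le_P hr),
      D.bet_pair (D.qlift_mem z) (D.U_le_P hr), D.pi_fixr hc, D.bet_fixr_cross hc' hc,
      D.cross_eq_zero hc' hc]
    simp [det2, D.kb_zero]
  exact (D.bet_eq_zero (D.U_central hr (D.U_le_P hu))).1 (hle hu).2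

theorem fixSpan_eq : D.fixSpan = 𝐔 ⊓ centMod 𝐔 𝐗 := by
  refine le_antisymm (le_inf D.fixSpan_le_U (sup_le (fun v hv => ?_) ((closure_le _).2 ?_))) fun u hu => ?_
  · refine ⟨centralizer_le_normalizer _ (mem_centralizer_iff.2 fun x hx => ?_), fun w hw => ?_⟩
    · exact (D.VP_comm (D.X_le_V hx) (V_le_P hv)).symm
    · rw [commutatorElement_eq_one_iff_mul_comm.2 (D.VP_comm hv (D.U_le_P hw)).symm]; exact one_mem _
  · rintro _ ⟨c, hc, y, rfl⟩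
    exact ⟨centralizer_le_normalizer _ (mem_centralizer_iff.2 fun x hx =>
      (D.VP_comm (D.X_le_V hx) (D.U_le_P (D.fixr_mem hc y))).symm), fun w hw => D.fixr_orth hc y hw⟩
  · refine D.mem_fixSpan hu.1 (eq_zero_of_det2 fun z => ?_)
    obtain ⟨q, hq, rfl⟩ := D.qc_surj z
    rw [det2_swap, D.det_eq_zero_of_comm hq (D.U_le_P hu.1)
      (commutator_mem_symm (hu.2.2 q (Q_le_U hq))), neg_zero]

/-- The centralizer of the module normalises `Q V`. -/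
theorem mem_normS {c : G} (hc : c ∈ 𝐂) : c ∈ normalizer ((𝐒 : Subgroup G) : Set G) := by
  set t := c * D.τ * c⁻¹ with ht
  set R := D.fixSpan with hR
  have hnE : ∀ g ∈ normalizer (E : Set G), g ∈ normalizer (R : Set G) := fun g hg => by
    have h1 := mem_normU_of_normE hg
    rw [hR, D.fixSpan_eq]
    exact LocalEven62.le_normalizer_inf (L := normalizer (E : Set G))
      (fun g hg => mem_normU_of_normE hg)
      (fun g hg => mem_normalizer_centMod (mem_normU_of_normE hg) (normE_le_X hg)) hg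
  have hB := D.B_le_normE
  have hl : ∀ A ∈ [𝐏, 𝐔, R, 𝐕, 𝐗, ⊥], A ≤ 𝐏 := by
    simp [D.U_le_P, D.fixSpan_le_U.trans D.U_le_P, hR, V_le_P, D.X_le_V.trans V_le_P]
  have hEl : ∀ A ∈ [𝐏, 𝐔, R, 𝐕, 𝐗, ⊥], normalizer (E : Set G) ≤ normalizer (A : Set G) := by
    simp only [List.forall_mem_cons, List.not_mem_nil, false_imp_iff, implies_true, and_true]
    exact ⟨fun g _ => mem_normP g, fun g hg => mem_normU_of_normE hg, hnE, fun g _ => mem_normV g,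
      normE_le_X, by rw [normalizer_bot_eq_top]; exact le_top⟩
  have hτU := mem_normU_of_normE (E := E) (le_normalizer D.τ_mem)
  have htU := D.τ'_normU hc
  have htR : t ∈ normalizer (R : Set G) := by
    rw [hR, D.fixSpan_eq]
    exact LocalEven62.le_normalizer_inf (L := normalizer ((𝐔 : Subgroup G) : Set G) ⊓ normalizer (𝐗 : Set G))
      inf_le_left (fun g hg => mem_normalizer_centMod hg.1 hg.2)
      (mem_inf.2 ⟨htU, mul_mem (mul_mem (centralizer_le_normalizer _ hc) (normE_le_X (le_normalizer D.τ_mem)))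
        (inv_mem (centralizer_le_normalizer _ hc))⟩)
  have hfix : ∀ r ∈ R, π₀ (t * r * t⁻¹) = π₀ r := by
    let K : Subgroup G :=
      { carrier := {r | π₀ (t * r * t⁻¹) = π₀ r}
        one_mem' := by simp
        mul_mem' := fun {a b} ha hb => by
          show π₀ _ = π₀ _
          rw [show t * (a * b) * t⁻¹ = (t * a * t⁻¹) * (t * b * t⁻¹) by group, map_mul, map_mul π₀ a b, ha, hb]
        inv_mem' := fun {a} ha => by
          show π₀ _ = π₀ _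
          rw [show t * a⁻¹ * t⁻¹ = (t * a * t⁻¹)⁻¹ by group, map_inv, map_inv π₀ a, ha] }
    intro r hr
    refine (show R ≤ K from sup_le (fun v hv => ?_) ((closure_le _).2 ?_)) hr
    · show π₀ _ = π₀ _
      rw [mk_eq_one.2 hv, mk_eq_one.2 (conj_mem' (mem_normV t) hv)]
    · rintro _ ⟨c', hc', y, rfl⟩
      exact D.mk_conj_τ'_fixr' hc' hc y
  have hτc : D.τ ∈ centMod 𝐏 𝐔 := ⟨hτU, fun u hu => Q_le_U (D.comm_mem_Q D.τ_mem hu)⟩
  have htc : t ∈ centMod 𝐏 𝐔 :=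
    conj_mem' (mem_normalizer_centMod (mem_normP c) (mem_normU_of_C hc)) hτc
  have hk : D.τ * t ∈ stab [𝐏, 𝐔, R, 𝐕, 𝐗, ⊥] := by
    refine ⟨mul_mem hτc htc, ⟨mul_mem (hnE _ (le_normalizer D.τ_mem)) htR, fun u hu => ?_⟩,
      ⟨mem_normV _, fun r hr => ?_⟩, ⟨?_, ?_⟩, ⟨?_, ?_⟩, trivial⟩
    · have hP := D.U_le_P hu
      have h1 : t * u * t⁻¹ ∈ 𝐔 := conj_mem' htU hu
      have h2 : D.τ * (t * u * t⁻¹) * D.τ⁻¹ ∈ 𝐔 := conj_mem' hτU h1
      obtain ⟨q, hq, e, he⟩ := D.exists_dec hP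
      have hf : q⁻¹ * u ∈ R := D.mem_fixSpan (mul_mem (inv_mem (Q_le_U hq)) hu) he
      have hπ : D.pi (t * u * t⁻¹) = -D.pi u := by
        rw [show t * u * t⁻¹ = (t * q * t⁻¹) * (t * (q⁻¹ * u) * t⁻¹) by group,
          D.pi_mul (conj_mem' (mem_normP t) (D.Q_le hq))
            (conj_mem' (mem_normP t) (mul_mem (inv_mem (D.Q_le hq)) hP)),
          D.pi_conj_τ' hc hq, D.pi_fixSpan (conj_mem' htR hf), add_zero, e]
      rw [show ⁅D.τ * t, u⁆ = D.τ * (t * u * t⁻¹) * D.τ⁻¹ * u⁻¹ by rw [commutatorElement_def]; group]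
      refine D.mem_fixSpan (mul_mem h2 (inv_mem hu)) ?_
      rw [D.pi_mul (D.U_le_P h2) (inv_mem hP), D.pi_conj D.τ_mem (D.U_le_P h1), D.s_τ, act_neg_one, hπ,
        D.pi_inv hP, neg_neg, add_neg_cancel]
    · have hrU := D.fixSpan_le_U hr
      rw [← mk_eq_one, show ⁅D.τ * t, r⁆ = D.τ * (t * r * t⁻¹) * D.τ⁻¹ * r⁻¹ by
        rw [commutatorElement_def]; group, map_mul, map_mul, map_mul, hfix r hr, map_inv, map_inv,
        D.mk_conj_E_of_pi D.τ_mem (D.U_le_P hrU) (D.pi_fixSpan hr), mul_inv_cancel]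
    · exact mul_mem (normE_le_X (le_normalizer D.τ_mem))
        (mul_mem (mul_mem (centralizer_le_normalizer _ hc) (normE_le_X (le_normalizer D.τ_mem)))
          (inv_mem (centralizer_le_normalizer _ hc)))
    · intro v hv
      rw [commutator_mul_left]
      exact mul_mem (conj_mem' (normE_le_X (le_normalizer D.τ_mem)) (D.comm_τ'_V hc hv))
        (D.comm_E_V D.τ_mem hv)
    · rw [normalizer_bot_eq_top]; trivial
    · intro x hx
      rw [mem_bot, commutatorElement_eq_one_iff_mul_comm]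
      exact (mem_centralizer_iff.1 (D.ττ'_mem_C hc) x hx).symm
  obtain ⟨w, -, hw, he⟩ := D.exists_conj_τ hl rfl rfl
    (fun A hA => le_normalizer.trans (hEl A hA)) (fun A hA => hB.trans (hEl A hA)) hk
  have htE : t ∈ E := by rw [ht, he]; exact conj_mem' hw D.τ_mem
  have hr1 : ∀ y, π₀ (D.fixr c y) = 1 := fun y => by
    have hQ : D.fixr c y ∈ 𝐐 :=
      mul_mem (conj_mem' (normE_le_Q (le_normalizer htE)) (D.qlift_mem y)) (D.qlift_mem y)
    have h := D.pi_fixr hc y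
    rw [D.pi_Q hQ] at h
    exact mk_eq_one.2 (D.W_le ((D.qc_ker hQ).1 h))
  refine LocalEven62.mem_normalizer_of_conj_mem fun u hu => ?_
  obtain ⟨q, hq, v, hv, rfl⟩ := D.S_dec hu
  rw [show c * (q * v) * c⁻¹ = (c * q * c⁻¹) * (c * v * c⁻¹) by group]
  refine mul_mem ?_ (mem_sup_right (conj_mem' (mem_normV c) hv))
  obtain ⟨y, hy⟩ := D.exists_point hc hq
  rw [map_mul π₀ (D.qlift y), hr1, mul_one] at hy
  have h1 := mk_eq_iff.1 hy.symm
  rw [show c * q * c⁻¹ = D.qlift y * ((D.qlift y)⁻¹ * (c * q * c⁻¹)) by group]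
  exact mul_mem (mem_sup_left (D.qlift_mem _)) (mem_sup_right h1)

/-- The centralizer of the module of an exceptional block normalises the block. -/
theorem centralizer_le_normalizer_block : 𝐂 ≤ normalizer (E : Set G) := fun c hc =>
  D.mem_normE_of_normQ hc (D.mem_normQ_of_normS hc (D.mem_normS hc))

end Exc

/-- The centralizer of the module of a block normalises the block. -/
theorem centralizer_modX_le_normalizer {G : Type*} [Group G] [Finite G] {p : ℕ} [hp : Fact p.Prime]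
    (T : Sylow p G) {E : Subgroup G} (hG : centralizer (pCore p G : Set G) ≤ pCore p G)
    (hE : IsBaumannBlock p (T : Subgroup G) E) :
    centralizer (modX p E : Set G) ≤ normalizer (E : Set G) := by
  rcases normalizes_or_exc T hG hE with h | ⟨h, F, _, ⟨D⟩⟩
  · exact h
  · subst h
    exact D.centralizer_le_normalizer_block

end Cfsg.Agent.LAE62
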