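import Cfsg.Agent.LAE62.ExcNormalise

/-!
The maps induced on the two natural modules of an exceptional block.
-/

set_option autoImplicit false
set_option linter.unusedSectionVars false
set_option linter.unusedVariables false
set_option linter.style.haveILetI false

open Subgroup Cfsg
open scoped commutatorElement MatrixGroups
open Cfsg.Agent.PushUp62 (centMod commutator_mem_symm conj_commutator le_normalizer_of_conj
  commutator_mul_left commutator_mul_right mem_sup_of_le_normalizer conj_mem_of_le_normalizer')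

namespace Cfsg.Agent.LAE62.Exc

variable {G : Type*} [Group G] [Finite G] {T : Sylow 3 G} {E : Subgroup G} {F : Type} [Field F]
  (D : Exc T E F)

local notation "𝐏" => pCore 3 G
local notation "𝐕" => omegaOneCenter 3 (pCore 3 G)
local notation "𝐗" => modX 3 E
local notation "𝐐" => pCoreOf 3 E
local notation "𝐖" => omegaOneCenter 3 (pCoreOf 3 E)
local notation "𝐙" => (omegaOneCenter 3 (pCoreOf 3 E) ⊓ centralizer (E : Set G))
local notation "𝐂" => centralizer (modX 3 E : Set G)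

include D

theorem finite_F : Finite F := by
  refine Finite.of_injective D.κ fun a b h => sub_eq_zero.1 (D.κ_inj ?_)
  rw [sub_eq_add_neg, D.κ_add, D.κ_neg, h, mul_inv_cancel]

theorem κ_injective {a b : F} (h : D.κ a = D.κ b) : a = b := by
  refine sub_eq_zero.1 (D.κ_inj ?_)
  rw [sub_eq_add_neg, D.κ_add, D.κ_neg, h, mul_inv_cancel]

theorem r_one : D.r 1 = 1 := (D.r_ker E.one_mem).2 (one_mem _)

theorem s_one : D.s 1 = 1 := (D.s_ker E.one_mem).2 (one_mem _)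

theorem r_inv {e : G} (he : e ∈ E) : D.r e⁻¹ = (D.r e)⁻¹ :=
  eq_inv_of_mul_eq_one_left (by rw [← D.r_mul (inv_mem he) he, inv_mul_cancel, D.r_one])

theorem s_inv {e : G} (he : e ∈ E) : D.s e⁻¹ = (D.s e)⁻¹ :=
  eq_inv_of_mul_eq_one_left (by rw [← D.s_mul (inv_mem he) he, inv_mul_cancel, D.s_one])

theorem xc_one : D.xc 1 = 0 := by
  have h := D.xc_mul (one_mem 𝐗) (one_mem 𝐗)
  rw [mul_one] at h
  exact left_eq_add.1 h

theorem xc_inv {x : G} (hx : x ∈ 𝐗) : D.xc x⁻¹ = -D.xc x := by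
  rw [eq_neg_iff_add_eq_zero, ← D.xc_mul (inv_mem hx) hx, inv_mul_cancel, D.xc_one]

theorem xc_injective {x y : G} (hx : x ∈ 𝐗) (hy : y ∈ 𝐗) (h : D.xc x = D.xc y) : x = y := by
  have := D.xc_inj (mul_mem (inv_mem hy) hx) (by
    rw [D.xc_mul (inv_mem hy) hx, D.xc_inv hy, h, neg_add_cancel])
  exact (inv_mul_eq_one.1 this).symm

theorem normQ_le_Z : normalizer (𝐐 : Set G) ≤ normalizer ((𝐙 : Subgroup G) : Set G) := fun g hg => by
  rw [← D.der]
  exact mem_normalizer_commutator hg hg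

theorem mem_Q_of_mem_C {e : G} (he : e ∈ E) (hc : e ∈ 𝐂) : e ∈ 𝐐 := by
  refine (D.r_ker he).1 (act_eq_of_forall fun v => ?_)
  obtain ⟨x, hx, rfl⟩ := D.xc_surj v
  rw [← D.xc_conj he hx, D.X_cent hc hx]

/-! ### The maps induced on `Q/W` and on `X` -/

/-- A lift of a point of `Q/W`. -/
noncomputable def qlift (y : Fin 2 → F) : G := (D.qc_surj y).choose

theorem qlift_mem (y : Fin 2 → F) : D.qlift y ∈ 𝐐 := (D.qc_surj y).choose_spec.1

theorem qc_qlift (y : Fin 2 → F) : D.qc (D.qlift y) = y := (D.qc_surj y).choose_spec.2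

/-- A lift of a point of `X`. -/
noncomputable def xlift (y : Fin 2 → F) : G := (D.xc_surj y).choose

theorem xlift_mem (y : Fin 2 → F) : D.xlift y ∈ 𝐗 := (D.xc_surj y).choose_spec.1

theorem xc_xlift (y : Fin 2 → F) : D.xc (D.xlift y) = y := (D.xc_surj y).choose_spec.2

theorem qc_conj_congr {g q q' : G} (hg : g ∈ normalizer (𝐐 : Set G)) (hq : q ∈ 𝐐) (hq' : q' ∈ 𝐐)
    (h : D.qc q = D.qc q') : D.qc (g * q * g⁻¹) = D.qc (g * q' * g⁻¹) := by
  rw [D.qc_eq_iff (conj_mem' hg hq) (conj_mem' hg hq'),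
    show (g * q' * g⁻¹)⁻¹ * (g * q * g⁻¹) = g * (q'⁻¹ * q) * g⁻¹ by group]
  exact conj_mem' (normQ_le_W hg) ((D.qc_eq_iff hq hq').1 h)

open scoped Classical in
/-- The map induced on `Q/W`. -/
noncomputable def actY (g : G) : (Fin 2 → F) →+ (Fin 2 → F) :=
  if hg : g ∈ normalizer (𝐐 : Set G) then
    AddMonoidHom.mk' (fun y => D.qc (g * D.qlift y * g⁻¹)) fun y z => by
      rw [D.qc_conj_congr hg (D.qlift_mem _) (mul_mem (D.qlift_mem y) (D.qlift_mem z))
        (by rw [D.qc_qlift, D.qc_mul (D.qlift_mem y) (D.qlift_mem z), D.qc_qlift, D.qc_qlift]),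
        ← D.qc_mul (conj_mem' hg (D.qlift_mem y)) (conj_mem' hg (D.qlift_mem z))]
      group
  else 0

theorem actY_qc {g q : G} (hg : g ∈ normalizer (𝐐 : Set G)) (hq : q ∈ 𝐐) :
    D.actY g (D.qc q) = D.qc (g * q * g⁻¹) := by
  rw [actY, dif_pos hg]
  exact D.qc_conj_congr hg (D.qlift_mem _) hq (D.qc_qlift _)

theorem actY_mul {g h : G} (hg : g ∈ normalizer (𝐐 : Set G)) (hh : h ∈ normalizer (𝐐 : Set G))
    (y : Fin 2 → F) : D.actY (g * h) y = D.actY g (D.actY h y) := by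
  obtain ⟨q, hq, rfl⟩ := D.qc_surj y
  rw [D.actY_qc hh hq, D.actY_qc hg (conj_mem' hh hq), D.actY_qc (mul_mem hg hh) hq]
  group

theorem actY_one (y : Fin 2 → F) : D.actY 1 y = y := by
  obtain ⟨q, hq, rfl⟩ := D.qc_surj y
  rw [D.actY_qc (one_mem _) hq]
  group

theorem actY_E {e : G} (he : e ∈ E) (y : Fin 2 → F) : D.actY e y = act (D.s e) y := by
  obtain ⟨q, hq, rfl⟩ := D.qc_surj y
  rw [D.actY_qc (normE_le_Q (le_normalizer he)) hq, D.qc_conj he hq]

theorem actY_conj {g e : G} (hg : g ∈ normalizer (E : Set G)) (he : e ∈ E) (y : Fin 2 → F) :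
    D.actY g (act (D.s e) y) = act (D.s (g * e * g⁻¹)) (D.actY g y) := by
  have hgQ := normE_le_Q hg
  have heg : g * e * g⁻¹ ∈ E := conj_mem' hg he
  rw [← D.actY_E he, ← D.actY_E heg, ← D.actY_mul hgQ (normE_le_Q (le_normalizer he)),
    ← D.actY_mul (normE_le_Q (le_normalizer heg)) hgQ, inv_mul_cancel_right]

theorem actY_inv {g : G} (hg : g ∈ normalizer (𝐐 : Set G)) (y : Fin 2 → F) :
    D.actY g (D.actY g⁻¹ y) = y := by
  rw [← D.actY_mul hg (inv_mem hg), mul_inv_cancel, D.actY_one]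

open scoped Classical in
/-- The map induced on `X`. -/
noncomputable def actX (g : G) : (Fin 2 → F) →+ (Fin 2 → F) :=
  if hg : g ∈ normalizer (𝐗 : Set G) then
    AddMonoidHom.mk' (fun y => D.xc (g * D.xlift y * g⁻¹)) fun y z => by
      have h : D.xlift (y + z) = D.xlift y * D.xlift z :=
        D.xc_injective (D.xlift_mem _) (mul_mem (D.xlift_mem y) (D.xlift_mem z)) (by
          rw [D.xc_xlift, D.xc_mul (D.xlift_mem y) (D.xlift_mem z), D.xc_xlift, D.xc_xlift])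
      rw [h, ← D.xc_mul (conj_mem' hg (D.xlift_mem y)) (conj_mem' hg (D.xlift_mem z))]
      group
  else 0

theorem actX_xc {g x : G} (hg : g ∈ normalizer (𝐗 : Set G)) (hx : x ∈ 𝐗) :
    D.actX g (D.xc x) = D.xc (g * x * g⁻¹) := by
  rw [actX, dif_pos hg]
  simp only [AddMonoidHom.mk'_apply]
  rw [D.xc_injective (D.xlift_mem _) hx (D.xc_xlift _)]

theorem actX_mul {g h : G} (hg : g ∈ normalizer (𝐗 : Set G)) (hh : h ∈ normalizer (𝐗 : Set G))
    (y : Fin 2 → F) : D.actX (g * h) y = D.actX g (D.actX h y) := by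
  obtain ⟨x, hx, rfl⟩ := D.xc_surj y
  rw [D.actX_xc hh hx, D.actX_xc hg (conj_mem' hh hx), D.actX_xc (mul_mem hg hh) hx]
  group

theorem actX_one (y : Fin 2 → F) : D.actX 1 y = y := by
  obtain ⟨x, hx, rfl⟩ := D.xc_surj y
  rw [D.actX_xc (one_mem _) hx]
  group

theorem actX_E {e : G} (he : e ∈ E) (y : Fin 2 → F) : D.actX e y = act (D.r e) y := by
  obtain ⟨x, hx, rfl⟩ := D.xc_surj y
  rw [D.actX_xc (normE_le_X (le_normalizer he)) hx, D.xc_conj he hx]

theorem actX_conj {g e : G} (hg : g ∈ normalizer (E : Set G)) (he : e ∈ E) (y : Fin 2 → F) :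
    D.actX g (act (D.r e) y) = act (D.r (g * e * g⁻¹)) (D.actX g y) := by
  have hgX := normE_le_X hg
  have heg : g * e * g⁻¹ ∈ E := conj_mem' hg he
  rw [← D.actX_E he, ← D.actX_E heg, ← D.actX_mul hgX (normE_le_X (le_normalizer he)),
    ← D.actX_mul (normE_le_X (le_normalizer heg)) hgX, inv_mul_cancel_right]

theorem actX_inv {g : G} (hg : g ∈ normalizer (𝐗 : Set G)) (y : Fin 2 → F) :
    D.actX g (D.actX g⁻¹ y) = y := by
  rw [← D.actX_mul hg (inv_mem hg), mul_inv_cancel, D.actX_one]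

/-! ### The projection of `W` to `X` -/

open scoped Classical in
/-- The `X`-coordinate of an element of `W`. -/
noncomputable def px (w : G) : Fin 2 → F :=
  if h : ∃ x, x ∈ 𝐗 ∧ x⁻¹ * w ∈ 𝐙 then D.xc h.choose else 0

theorem px_eq {x w : G} (hx : x ∈ 𝐗) (hz : x⁻¹ * w ∈ 𝐙) : D.px w = D.xc x := by
  have h : ∃ x, x ∈ 𝐗 ∧ x⁻¹ * w ∈ 𝐙 := ⟨x, hx, hz⟩
  rw [px, dif_pos h]
  obtain ⟨h1, h2⟩ := h.choose_spec
  have := D.X_inter_Z (mul_mem (inv_mem h1) hx)
    (by simpa [mul_assoc] using mul_mem h2 (inv_mem hz))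
  rw [inv_mul_eq_one.1 this]

theorem px_X {x : G} (hx : x ∈ 𝐗) : D.px x = D.xc x := D.px_eq hx (by simp [one_mem])

theorem px_eq_zero {w : G} (hw : w ∈ 𝐖) : D.px w = 0 ↔ w ∈ 𝐙 := by
  obtain ⟨x, hx, z, hz, rfl⟩ := D.W_dec hw
  rw [D.px_eq hx (by simpa using hz)]
  refine ⟨fun h => by rw [D.xc_inj hx h, one_mul]; exact hz, fun h => ?_⟩
  rw [D.X_inter_Z hx (by simpa using mul_mem h (inv_mem hz)), D.xc_one]

theorem px_mul {w w' : G} (hw : w ∈ 𝐖) (hw' : w' ∈ 𝐖) : D.px (w * w') = D.px w + D.px w' := by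
  obtain ⟨x, hx, z, hz, rfl⟩ := D.W_dec hw
  obtain ⟨x', hx', z', hz', rfl⟩ := D.W_dec hw'
  rw [D.px_eq (w := x * z) hx (by simpa using hz), D.px_eq (w := x' * z') hx' (by simpa using hz'),
    D.px_eq (mul_mem hx hx') (w := x * z * (x' * z')), D.xc_mul hx hx']
  rw [show (x * x')⁻¹ * (x * z * (x' * z')) = x'⁻¹ * (z * x') * z' by group,
    D.W_comm (D.X_le_W hx') (W_le_Q hz.1), ← mul_assoc, inv_mul_cancel, one_mul]
  exact mul_mem hz hz'

theorem px_inv {w : G} (hw : w ∈ 𝐖) : D.px w⁻¹ = -D.px w := by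
  rw [eq_neg_iff_add_eq_zero, ← D.px_mul (inv_mem hw) hw, inv_mul_cancel,
    D.px_eq_zero (one_mem _)]
  exact one_mem _

theorem px_conj {g w : G} (hgX : g ∈ normalizer (𝐗 : Set G)) (hgQ : g ∈ normalizer (𝐐 : Set G))
    (hw : w ∈ 𝐖) : D.px (g * w * g⁻¹) = D.actX g (D.px w) := by
  obtain ⟨x, hx, z, hz, rfl⟩ := D.W_dec hw
  rw [D.px_eq (w := x * z) hx (by simpa using hz), D.actX_xc hgX hx, D.px_eq (conj_mem' hgX hx)]
  rw [show (g * x * g⁻¹)⁻¹ * (g * (x * z) * g⁻¹) = g * z * g⁻¹ by group]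
  exact conj_mem' (D.normQ_le_Z hgQ) hz

theorem actX_C {c : G} (hc : c ∈ 𝐂) (y : Fin 2 → F) : D.actX c y = y := by
  obtain ⟨x, hx, rfl⟩ := D.xc_surj y
  rw [D.actX_xc (centralizer_le_normalizer _ hc) hx, D.X_cent hc hx]

end Cfsg.Agent.LAE62.Exc
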