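import Cfsg.Agent.LAE62.ExcCommute

/-!
The section spanned by the conjugates of `Q` under the centralizer of the module.
-/

set_option autoImplicit false
set_option linter.unusedSectionVars false
set_option linter.unusedVariables false
set_option linter.style.haveILetI false

open Subgroup Cfsg
open scoped commutatorElement MatrixGroups IsMulCommutative
open Cfsg.Agent.PushUp62 (centMod commutator_mem_symm conj_commutator le_normalizer_of_conj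
  commutator_mul_left commutator_mul_right mem_sup_of_le_normalizer conj_mem_of_le_normalizer')

namespace Cfsg.Agent.LAE62

variable {G : Type*} [Group G]

theorem omegaPCore_comm [Finite G] : IsMulCommutative ↥(omegaOneCenter 3 (pCore 3 G)) :=
  (LAE65.Block.isElementaryAbelian_omegaOneCenter _).1

attribute [local instance] omegaPCore_comm

theorem omegaPCore_normal [Finite G] : (omegaOneCenter 3 (pCore 3 G)).Normal :=
  normalizer_eq_top_iff.1 (top_le_iff.1 (LAE65.Block.le_normalizer_omegaPCore ⊤))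

attribute [local instance] omegaPCore_normal

/-- The subgroup generated by `V` and the conjugates of `Q` under `C(X)`. -/
def spanU (E : Subgroup G) : Subgroup G :=
  omegaOneCenter 3 (pCore 3 G) ⊔
    ⨆ c : ↥(centralizer (modX 3 E : Set G)), (pCoreOf 3 E).map (MulAut.conj (c : G)).toMonoidHom

namespace Exc

variable [Finite G] {T : Sylow 3 G} {E : Subgroup G} {F : Type} [Field F] (D : Exc T E F)

local notation "𝐏" => pCore 3 G
local notation "𝐕" => omegaOneCenter 3 (pCore 3 G)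
local notation "𝐗" => modX 3 E
local notation "𝐐" => pCoreOf 3 E
local notation "𝐖" => omegaOneCenter 3 (pCoreOf 3 E)
local notation "𝐂" => centralizer (modX 3 E : Set G)
local notation "𝐔" => spanU E
local notation "π₀" => QuotientGroup.mk' (omegaOneCenter 3 (pCore 3 G))

theorem V_le_U : 𝐕 ≤ 𝐔 := le_sup_left

theorem conj_Q_mem_U {c q : G} (hc : c ∈ 𝐂) (hq : q ∈ 𝐐) : c * q * c⁻¹ ∈ 𝐔 :=
  mem_sup_right (mem_iSup_of_mem (⟨c, hc⟩ : ↥𝐂) (mem_map_of_mem (MulAut.conj c).toMonoidHom hq))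

theorem Q_le_U : 𝐐 ≤ 𝐔 := fun q hq => by simpa using conj_Q_mem_U (E := E) (one_mem _) hq

/-- An induction principle for the span. -/
theorem U_le {K : Subgroup G} (hV : 𝐕 ≤ K) (hQ : ∀ c ∈ 𝐂, ∀ q ∈ 𝐐, c * q * c⁻¹ ∈ K) : 𝐔 ≤ K :=
  sup_le hV (iSup_le fun c => map_le_iff_le_comap.2 fun q hq => hQ c c.2 q hq)

theorem mem_normU_of_C {c : G} (hc : c ∈ 𝐂) : c ∈ normalizer ((spanU E : Subgroup G) : Set G) := by
  refine LocalEven62.mem_normalizer_of_conj_mem fun u hu => ?_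
  refine (U_le (E := E) (K := (spanU E).comap (MulAut.conj c).toMonoidHom) ?_ ?_) hu
  · exact fun v hv => V_le_U (conj_mem' (mem_normV c) hv)
  · intro c' hc' q hq
    show c * (c' * q * c'⁻¹) * c⁻¹ ∈ 𝐔
    rw [show c * (c' * q * c'⁻¹) * c⁻¹ = (c * c') * q * (c * c')⁻¹ by group]
    exact conj_Q_mem_U (mul_mem hc hc') hq

theorem mem_normU_of_normE {g : G} (hg : g ∈ normalizer (E : Set G)) :
    g ∈ normalizer ((spanU E : Subgroup G) : Set G) := by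
  refine LocalEven62.mem_normalizer_of_conj_mem fun u hu => ?_
  refine (U_le (E := E) (K := (spanU E).comap (MulAut.conj g).toMonoidHom) ?_ ?_) hu
  · exact fun v hv => V_le_U (conj_mem' (mem_normV g) hv)
  · intro c' hc' q hq
    show g * (c' * q * c'⁻¹) * g⁻¹ ∈ 𝐔
    rw [show g * (c' * q * c'⁻¹) * g⁻¹ = (g * c' * g⁻¹) * (g * q * g⁻¹) * (g * c' * g⁻¹)⁻¹ by group]
    exact conj_Q_mem_U (conj_mem' (normX_le_C (normE_le_X hg)) hc') (conj_mem' (normE_le_Q hg) hq)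

theorem mk_eq_iff {a b : G} : π₀ a = π₀ b ↔ a⁻¹ * b ∈ 𝐕 := QuotientGroup.eq

theorem mk_eq_one {a : G} : π₀ a = 1 ↔ a ∈ 𝐕 := QuotientGroup.eq_one_iff a

include D

theorem U_le_P : 𝐔 ≤ 𝐏 :=
  U_le V_le_P fun c _ q hq => conj_mem' (mem_normP c) (D.Q_le hq)

theorem U_central {u v : G} (hu : u ∈ 𝐔) (hv : v ∈ 𝐏) : ⁅u, v⁆ ∈ 𝐕 := by
  have h : 𝐔 ≤ centMod 𝐏 𝐕 := by
    refine U_le (fun x hx => ⟨mem_normV x, fun y hy => ?_⟩) fun c _ q hq => ?_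
    · rw [commutatorElement_eq_one_iff_mul_comm.2 (D.VP_comm hx hy).symm]; exact one_mem _
    · exact conj_mem' (mem_normalizer_centMod (mem_normP c) (mem_normV c))
        ⟨mem_normV q, fun y hy => D.W_le (commutator_mem_symm (D.P_Q hy hq))⟩
  exact (h hu).2 v hv

theorem mk_comm {u v : G} (hu : u ∈ 𝐔) (hv : v ∈ 𝐏) : π₀ u * π₀ v = π₀ v * π₀ u := by
  rw [← commutatorElement_eq_one_iff_mul_comm, ← map_commutatorElement, mk_eq_one]
  exact D.U_central hu hv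

theorem mk_cube {u : G} (hu : u ∈ 𝐔) : π₀ u ^ 3 = 1 := by
  let K : Subgroup G :=
    { carrier := {g | g ∈ 𝐔 ∧ π₀ g ^ 3 = 1}
      one_mem' := ⟨one_mem _, by simp⟩
      mul_mem' := fun {a b} ha hb => ⟨mul_mem ha.1 hb.1, by
        rw [map_mul, (show Commute (π₀ a) (π₀ b) from D.mk_comm ha.1 (D.U_le_P hb.1)).mul_pow, ha.2,
          hb.2, one_mul]⟩
      inv_mem' := fun {a} ha => ⟨inv_mem ha.1, by rw [map_inv, inv_pow, ha.2, inv_one]⟩ }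
  refine (U_le (K := K) (fun v hv => ⟨V_le_U hv, by rw [mk_eq_one.2 hv, one_pow]⟩)
    (fun c hc q hq => ⟨conj_Q_mem_U hc hq, ?_⟩) hu).2
  rw [← map_pow, mk_eq_one, conj_pow]
  exact conj_mem' (mem_normV c) (D.Z_le_V (D.cube hq))

theorem pi_mk {u v : G} (hu : u ∈ 𝐏) (h : π₀ u = π₀ v) : D.pi v = D.pi u :=
  D.pi_eq_of_congr hu (mk_eq_iff.1 h)

theorem mk_qc {q q' : G} (hq : q ∈ 𝐐) (hq' : q' ∈ 𝐐) (h : D.qc q = D.qc q') : π₀ q = π₀ q' :=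
  mk_eq_iff.2 (D.W_le ((D.qc_eq_iff hq' hq).1 h.symm))

/-- The image of `Q` in the section. -/
noncomputable def jv (y : Fin 2 → F) : G ⧸ omegaOneCenter 3 (pCore 3 G) := π₀ (D.qlift y)

theorem jv_qc {q : G} (hq : q ∈ 𝐐) : D.jv (D.qc q) = π₀ q :=
  D.mk_qc (D.qlift_mem _) hq (D.qc_qlift _)

theorem jv_add (y z : Fin 2 → F) : D.jv (y + z) = D.jv y * D.jv z := by
  rw [jv, jv, jv, ← map_mul]
  exact D.mk_qc (D.qlift_mem _) (mul_mem (D.qlift_mem _) (D.qlift_mem _))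
    (by rw [D.qc_qlift, D.qc_mul (D.qlift_mem _) (D.qlift_mem _), D.qc_qlift, D.qc_qlift])

theorem jv_zero : D.jv 0 = 1 := by
  have h := D.jv_add 0 0
  rw [add_zero] at h
  exact left_eq_mul.1 h

theorem jv_neg (y : Fin 2 → F) : D.jv (-y) = (D.jv y)⁻¹ :=
  eq_inv_of_mul_eq_one_left (by rw [← D.jv_add, neg_add_cancel, D.jv_zero])

theorem pi_qlift (y : Fin 2 → F) : D.pi (D.qlift y) = y := by
  rw [D.pi_Q (D.qlift_mem y), D.qc_qlift]

theorem mk_conj_τ_Q {q : G} (hq : q ∈ 𝐐) : π₀ D.τ * π₀ q * (π₀ D.τ)⁻¹ = (π₀ q)⁻¹ := by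
  rw [← map_inv π₀ D.τ, ← map_mul, ← map_mul, ← map_inv]
  refine D.mk_qc (conj_mem' (normE_le_Q (le_normalizer D.τ_mem)) hq) (inv_mem hq) ?_
  rw [D.τ_inv, D.qc_τ hq, D.qc_inv hq]

theorem mk_conj_E_of_pi {e u : G} (he : e ∈ E) (hu : u ∈ 𝐏) (h : D.pi u = 0) :
    π₀ e * π₀ u * (π₀ e)⁻¹ = π₀ u := by
  rw [← map_inv π₀ e, ← map_mul, ← map_mul, eq_comm, mk_eq_iff]
  have hw := D.W_le (D.fix_of_pi he hu h)
  rw [show u⁻¹ * (e * u * e⁻¹) = u⁻¹ * ⁅e, u⁆ * u⁻¹⁻¹ by rw [commutatorElement_def]; group]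
  exact conj_mem' (mem_normV _) hw

theorem mk_conj_E_jv {e : G} (he : e ∈ E) (y : Fin 2 → F) :
    π₀ e * D.jv y * (π₀ e)⁻¹ = D.jv (act (D.s e) y) := by
  rw [jv, ← map_inv π₀ e, ← map_mul, ← map_mul,
    ← D.jv_qc (conj_mem' (normE_le_Q (le_normalizer he)) (D.qlift_mem y)), D.qc_conj he (D.qlift_mem y),
    D.qc_qlift]

/-! ### The pairing into `V/X` -/

omit D in
open scoped Classical in
/-- The commutator of two elements in `V/X`. -/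
noncomputable def bet (_D : Exc T E F) (u v : G) : Additive (↥𝐕 ⧸ (modX 3 E).subgroupOf 𝐕) :=
  if h : ⁅u, v⁆ ∈ 𝐕 then Additive.ofMul (QuotientGroup.mk ⟨⁅u, v⁆, h⟩) else 0

theorem bet_def {u v : G} (h : ⁅u, v⁆ ∈ 𝐕) :
    D.bet u v = Additive.ofMul (QuotientGroup.mk (⟨⁅u, v⁆, h⟩ : ↥𝐕)) := dif_pos h

theorem bet_eq_zero {u v : G} (h : ⁅u, v⁆ ∈ 𝐕) : D.bet u v = 0 ↔ ⁅u, v⁆ ∈ 𝐗 := by
  rw [D.bet_def h, ← ofMul_one, Additive.ofMul.injective.eq_iff, QuotientGroup.eq_one_iff, mem_subgroupOf]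

theorem bet_mul_left {u u' v : G} (hu : u ∈ 𝐔) (hu' : u' ∈ 𝐔) (hv : v ∈ 𝐏) :
    D.bet (u * u') v = D.bet u v + D.bet u' v := by
  have h1 := D.U_central hu hv
  have h2 := D.U_central hu' hv
  have e : ⁅u * u', v⁆ = ⁅u', v⁆ * ⁅u, v⁆ := comm_mul_left_central (D.VP_comm h2 (D.U_le_P hu))
  rw [D.bet_def (e ▸ mul_mem h2 h1), D.bet_def h1, D.bet_def h2, add_comm, ← ofMul_mul,
    ← QuotientGroup.mk_mul]
  congr 2
  exact Subtype.ext e

theorem bet_swap {u v : G} (hu : u ∈ 𝐔) (hv : v ∈ 𝐏) : D.bet v u = -D.bet u v := by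
  have h1 := D.U_central hu hv
  have e : ⁅v, u⁆ = ⁅u, v⁆⁻¹ := (commutatorElement_inv u v).symm
  rw [D.bet_def (e ▸ inv_mem h1), D.bet_def h1, ← ofMul_inv, ← QuotientGroup.mk_inv]
  congr 2
  exact Subtype.ext e

theorem bet_mul_right {u v v' : G} (hu : u ∈ 𝐔) (hv : v ∈ 𝐔) (hv' : v' ∈ 𝐔) :
    D.bet u (v * v') = D.bet u v + D.bet u v' := by
  rw [D.bet_swap (mul_mem hv hv') (D.U_le_P hu), D.bet_mul_left hv hv' (D.U_le_P hu),
    D.bet_swap hv (D.U_le_P hu), D.bet_swap hv' (D.U_le_P hu), neg_add]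

theorem bet_V {u v : G} (hu : u ∈ 𝐕) (hv : v ∈ 𝐏) : D.bet u v = 0 :=
  (D.bet_eq_zero (D.U_central (V_le_U hu) hv)).2
    (by rw [commutatorElement_eq_one_iff_mul_comm.2 (D.VP_comm hu hv).symm]; exact one_mem _)

theorem bet_congr {u u' v v' : G} (hu : u ∈ 𝐔) (hu' : u' ∈ 𝐔) (hv : v ∈ 𝐔) (hv' : v' ∈ 𝐔)
    (h : π₀ u = π₀ u') (h' : π₀ v = π₀ v') : D.bet u v = D.bet u' v' := by
  have k1 := mk_eq_iff.1 h
  have k2 := mk_eq_iff.1 h'
  rw [show u' = u * (u⁻¹ * u') by group, show v' = v * (v⁻¹ * v') by group,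
    D.bet_mul_left hu (V_le_U k1) (mul_mem (D.U_le_P hv) (V_le_P k2)),
    D.bet_V k1 (mul_mem (D.U_le_P hv) (V_le_P k2)), add_zero, D.bet_mul_right hu hv (V_le_U k2),
    D.bet_swap (V_le_U k2) (D.U_le_P hu), D.bet_V k2 (D.U_le_P hu), neg_zero, add_zero]

/-- Conjugation by an element centralising `V/X` preserves the pairing. -/
theorem bet_conj {g u v : G} (hg : ∀ w ∈ 𝐕, ⁅g, w⁆ ∈ 𝐗) (hu : u ∈ 𝐔) (hv : v ∈ 𝐔) :
    D.bet (g * u * g⁻¹) (g * v * g⁻¹) = D.bet u v := by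
  have h1 := D.U_central hu (D.U_le_P hv)
  have e : ⁅g * u * g⁻¹, g * v * g⁻¹⁆ = ⁅g, ⁅u, v⁆⁆ * ⁅u, v⁆ := by
    rw [← conj_commutator, commutatorElement_def g]; group
  have hX := hg _ h1
  rw [D.bet_def (e ▸ mul_mem (D.X_le_V hX) h1), D.bet_def h1]
  refine congrArg Additive.ofMul (QuotientGroup.eq.2 ?_)
  rw [mem_subgroupOf]
  show ⁅g * u * g⁻¹, g * v * g⁻¹⁆⁻¹ * ⁅u, v⁆ ∈ 𝐗
  rw [e, show (⁅g, ⁅u, v⁆⁆ * ⁅u, v⁆)⁻¹ * ⁅u, v⁆ = ⁅u, v⁆⁻¹ * ⁅g, ⁅u, v⁆⁆⁻¹ * ⁅u, v⁆ by group,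
    D.VP_comm (D.X_le_V (inv_mem hX)) (V_le_P (inv_mem h1)), inv_mul_cancel_right]
  exact inv_mem hX

/-- The image of the pairing constants in `V/X`. -/
noncomputable def kb (a : F) : Additive (↥𝐕 ⧸ (modX 3 E).subgroupOf 𝐕) :=
  Additive.ofMul (QuotientGroup.mk ⟨D.κ a, D.Z_le_V (D.κ_mem a)⟩)

theorem kb_add (a b : F) : D.kb (a + b) = D.kb a + D.kb b := by
  rw [kb, kb, kb, ← ofMul_mul, ← QuotientGroup.mk_mul]
  congr 2
  exact Subtype.ext (D.κ_add a b)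

theorem kb_zero : D.kb 0 = 0 := by
  have h := D.kb_add 0 0
  rw [add_zero] at h
  exact left_eq_add.1 h

theorem kb_neg (a : F) : D.kb (-a) = -D.kb a :=
  eq_neg_of_add_eq_zero_left (by rw [← D.kb_add, neg_add_cancel, D.kb_zero])

theorem eq_zero_of_kb {a : F} (h : D.kb a = 0) : a = 0 := by
  rw [kb, ← ofMul_one, Additive.ofMul.injective.eq_iff, QuotientGroup.eq_one_iff, mem_subgroupOf] at h
  exact D.κ_mem_X h

theorem bet_pair {q u : G} (hq : q ∈ 𝐐) (hu : u ∈ 𝐏) :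
    D.bet q u = D.kb (det2 (D.qc q) (D.pi u)) := by
  obtain ⟨x, hx, e⟩ := D.comm_pair hq hu
  rw [D.bet_def (D.U_central (Q_le_U hq) hu), kb]
  refine congrArg Additive.ofMul (QuotientGroup.eq.2 ?_)
  rw [mem_subgroupOf]
  show ⁅q, u⁆⁻¹ * D.κ _ ∈ 𝐗
  rw [e, mul_inv_rev, inv_mul_cancel_right]
  exact inv_mem hx

/-! ### The conjugates of `τ` -/

theorem τ'_inv (c : G) : (c * D.τ * c⁻¹)⁻¹ = c * D.τ * c⁻¹ :=
  inv_eq_of_mul_eq_one_right (D.τ'_sq c)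

theorem τ'_normU {c : G} (hc : c ∈ 𝐂) :
    c * D.τ * c⁻¹ ∈ normalizer ((spanU E : Subgroup G) : Set G) :=
  mul_mem (mul_mem (mem_normU_of_C hc) (mem_normU_of_normE (le_normalizer D.τ_mem)))
    (inv_mem (mem_normU_of_C hc))

theorem bet_τ' {c u v : G} (hc : c ∈ 𝐂) (hu : u ∈ 𝐔) (hv : v ∈ 𝐔) :
    D.bet ((c * D.τ * c⁻¹) * u * (c * D.τ * c⁻¹)⁻¹) ((c * D.τ * c⁻¹) * v * (c * D.τ * c⁻¹)⁻¹) =
      D.bet u v :=
  D.bet_conj (fun w hw => D.comm_τ'_V hc hw) hu hv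

/-- The component of a conjugate of `τ` on `Q` is a scalar. -/
theorem exists_scalar_τ' {c : G} (hc : c ∈ 𝐂) :
    ∃ a : F, ∀ q ∈ 𝐐, D.pi ((c * D.τ * c⁻¹) * q * (c * D.τ * c⁻¹)⁻¹) = a • D.qc q := by
  set t := c * D.τ * c⁻¹ with ht
  have hU : ∀ {q}, q ∈ 𝐐 → t * q * t⁻¹ ∈ 𝐔 := fun hq => conj_mem' (D.τ'_normU hc) (Q_le_U hq)
  have hwell : ∀ {q q'}, q ∈ 𝐐 → q' ∈ 𝐐 → D.qc q = D.qc q' →
      D.pi (t * q * t⁻¹) = D.pi (t * q' * t⁻¹) := fun {q q'} hq hq' h => by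
    refine D.pi_mk (D.U_le_P (hU hq')) ?_
    simp only [map_mul]
    rw [D.mk_qc hq' hq h.symm]
  let A : (Fin 2 → F) →+ (Fin 2 → F) :=
    AddMonoidHom.mk' (fun y => D.pi (t * D.qlift y * t⁻¹)) fun y z => by
      rw [hwell (D.qlift_mem _) (mul_mem (D.qlift_mem y) (D.qlift_mem z))
        (by rw [D.qc_qlift, D.qc_mul (D.qlift_mem y) (D.qlift_mem z), D.qc_qlift, D.qc_qlift]),
        ← D.pi_mul (D.U_le_P (hU (D.qlift_mem y))) (D.U_le_P (hU (D.qlift_mem z)))]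
      group
  have hA : ∀ {q}, q ∈ 𝐐 → D.pi (t * q * t⁻¹) = A (D.qc q) := fun hq =>
    hwell hq (D.qlift_mem _) (D.qc_qlift _).symm
  obtain ⟨a, ha⟩ := exists_scalar_of_adjoint D.h3 A fun y z => by
    obtain ⟨q, hq, rfl⟩ := D.qc_surj y
    obtain ⟨q', hq', rfl⟩ := D.qc_surj z
    rw [← hA hq, ← hA hq']
    refine sub_eq_zero.1 (D.eq_zero_of_kb ?_)
    rw [sub_eq_add_neg, D.kb_add, D.kb_neg, det2_swap (D.qc q') (D.pi (t * q * t⁻¹)), D.kb_neg,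
      ← D.bet_pair hq' (D.U_le_P (hU hq)), ← D.bet_pair hq (D.U_le_P (hU hq')),
      ← D.bet_swap (Q_le_U hq') (D.U_le_P (hU hq))]
    have h := D.bet_τ' hc (hU hq) (Q_le_U hq')
    have e : t * (t * q * t⁻¹) * t⁻¹ = q := by
      rw [show t * (t * q * t⁻¹) * t⁻¹ = (t * t) * q * (t * t)⁻¹ by group, D.τ'_sq c]; group
    rw [e] at h
    rw [h, add_neg_cancel]
  exact ⟨a, fun q hq => (hA hq).trans (ha _)⟩

end Exc

end Cfsg.Agent.LAE62
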