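import Cfsg.Agent.LAE62.ExcBasic

/-!
Elements centralising the module that normalise `Q V` normalise `Q`.
-/

set_option autoImplicit false
set_option linter.unusedSectionVars false
set_option linter.unusedVariables false
set_option linter.style.haveILetI false

open Subgroup Cfsg
open scoped commutatorElement MatrixGroups
open Cfsg.Agent.PushUp62 (centMod commutator_mem_symm conj_commutator le_normalizer_of_conj
  commutator_mul_left commutator_mul_right mem_sup_of_le_normalizer conj_mem_of_le_normalizer')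

namespace Cfsg.Agent.LAE62.Exc

variable {G : Type*} [Group G] [Finite G] {T : Sylow 3 G} {E : Subgroup G} {F : Type} [Field F]
  (D : Exc T E F)

local notation "𝐏" => pCore 3 G
local notation "𝐕" => omegaOneCenter 3 (pCore 3 G)
local notation "𝐗" => modX 3 E
local notation "𝐐" => pCoreOf 3 E
local notation "𝐖" => omegaOneCenter 3 (pCoreOf 3 E)
local notation "𝐙" => (omegaOneCenter 3 (pCoreOf 3 E) ⊓ centralizer (E : Set G))
local notation "𝐂" => centralizer (modX 3 E : Set G)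
local notation "𝐒" => (pCoreOf 3 E ⊔ omegaOneCenter 3 (pCore 3 G))

include D

theorem S_dec {u : G} (hu : u ∈ 𝐒) : ∃ q ∈ 𝐐, ∃ v ∈ 𝐕, u = q * v :=
  mem_sup_of_le_normalizer (fun q _ => mem_normV q) hu

theorem S_le_P : 𝐒 ≤ 𝐏 := sup_le D.Q_le V_le_P

theorem mem_normS_of_normE {g : G} (hg : g ∈ normalizer (E : Set G)) : g ∈ normalizer ((𝐒 : Subgroup G) : Set G) :=
  LocalEven62.le_normalizer_sup normE_le_Q (fun g _ => mem_normV g) hg

/-- If `τ τ'` stabilises a chain from `O₃(G)`, then `τ'` is conjugate to `τ` by an element normalising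
the block. -/
theorem exists_conj_τ {c : G} {l : List (Subgroup G)} (hl : ∀ A ∈ l, A ≤ 𝐏) (hlast : l.getLast? = some ⊥)
    (hhead : l.head? = some 𝐏) (hEl : ∀ A ∈ l, E ≤ normalizer (A : Set G))
    (hBl : ∀ A ∈ l, baumannSubgroupOf 3 (T : Subgroup G) ≤ normalizer (A : Set G))
    (hk : D.τ * (c * D.τ * c⁻¹) ∈ stab l) :
    ∃ w ∈ stab l, w ∈ normalizer (E : Set G) ∧ c * D.τ * c⁻¹ = w * D.τ * w⁻¹ := by
  set τ' := c * D.τ * c⁻¹ with hτ'
  set k := D.τ * τ' with hkdef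
  obtain ⟨n, hn⟩ := isPGroup_stab D.hG hl hlast hhead ⟨k, hk⟩
  have hn' : k ^ 3 ^ n = 1 := by simpa using congrArg Subtype.val hn
  obtain ⟨m, hm⟩ : ∃ m, 3 ^ n = 2 * m + 1 := Odd.pow (by decide : Odd 3)
  have hinv : ∀ i : ℕ, D.τ * k ^ i * D.τ⁻¹ = (k ^ i)⁻¹ := fun i => by
    rw [← inv_pow, ← conj_pow, show D.τ * k * D.τ⁻¹ = k⁻¹ from ?_]
    rw [hkdef, mul_inv_rev, inv_eq_of_mul_eq_one_right (show τ' * τ' = 1 from D.τ'_sq c), D.τ_inv,
      ← mul_assoc, D.τ_sq, one_mul]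
  refine ⟨k ^ m, pow_mem hk m, stab_le_normalizer D.hG D.hE hl hlast hhead hEl hBl (pow_mem hk m), ?_⟩
  have h1 : D.τ * (k ^ m)⁻¹ = k ^ m * D.τ := by
    rw [← hinv m, D.τ_inv, ← mul_assoc, ← mul_assoc, D.τ_sq, one_mul]
  rw [mul_assoc (k ^ m), h1, ← mul_assoc, ← pow_add, ← two_mul,
    show k ^ (2 * m) = k⁻¹ from eq_inv_of_mul_eq_one_left (by rw [← pow_succ, ← hm, hn']),
    hkdef, mul_inv_rev, inv_eq_of_mul_eq_one_right (show τ' * τ' = 1 from D.τ'_sq c), D.τ_inv,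
    mul_assoc, D.τ_sq, mul_one]

/-- `Q = [Q V, τ]`. -/
theorem commutator_S_τ : ⁅𝐒, zpowers D.τ⁆ = 𝐐 := by
  refine le_antisymm (commutator_le.2 fun s hs t ht =>
    D.P_comm (D.S_le_P hs) (zpowers_le.2 D.τ_mem ht)) ?_
  set K := ⁅𝐒, zpowers D.τ⁆ with hK
  have hmem : ∀ s ∈ 𝐒, ⁅s, D.τ⁆ ∈ K := fun s hs => commutator_mem_commutator hs (mem_zpowers _)
  have hX : 𝐗 ≤ K := fun x hx => by
    have h := hmem x (mem_sup_right (D.X_le_V hx))
    have hτx : D.τ * x⁻¹ * D.τ = x := by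
      have h := D.τ_X (inv_mem hx)
      rwa [inv_inv] at h
    rw [commutatorElement_def, D.τ_inv, mul_assoc x, mul_assoc x, hτx] at h
    have h3 : x ^ 3 = 1 := (LAE65.Block.isElementaryAbelian_omegaOneCenter 𝐐).2 x (D.X_le_W hx)
    rw [← sq, show x ^ 2 = x⁻¹ from eq_inv_of_mul_eq_one_left (by rw [← pow_succ]; exact h3)] at h
    exact inv_mem_iff.1 h
  have hsplit : ∀ q ∈ 𝐐, ∃ k ∈ K ⊓ 𝐐, ∃ w ∈ 𝐖, q = k * w := by
    intro q hq
    have hk : ⁅q, D.τ⁆ ∈ K ⊓ 𝐐 := ⟨hmem q (mem_sup_left hq), D.P_comm (D.Q_le hq) D.τ_mem⟩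
    refine ⟨⁅q, D.τ⁆⁻¹, inv_mem hk, ⁅q, D.τ⁆ * q, ?_, by group⟩
    rw [← D.qc_ker (mul_mem hk.2 hq), D.qc_mul hk.2 hq, commutatorElement_def, D.τ_inv]
    have hτq : D.τ * q⁻¹ * D.τ ∈ 𝐐 := by
      have h := conj_mem' (normE_le_Q (le_normalizer D.τ_mem)) (inv_mem hq)
      rwa [D.τ_inv] at h
    rw [show q * D.τ * q⁻¹ * D.τ = q * (D.τ * q⁻¹ * D.τ) by group, D.qc_mul hq hτq,
      D.qc_τ (inv_mem hq), D.qc_inv hq, neg_neg]
    funext i
    simp only [Pi.add_apply, Pi.zero_apply]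
    linear_combination (D.qc q i) * D.h3
  have hZ : 𝐙 ≤ K := by
    rw [← D.der, commutator_le]
    intro q hq q' hq'
    obtain ⟨k, hk, w, hw, rfl⟩ := hsplit q hq
    obtain ⟨k', hk', w', hw', rfl⟩ := hsplit q' hq'
    rw [commutator_mul_left, commutatorElement_eq_one_iff_mul_comm.2 (D.W_comm hw hq').symm,
      mul_one, mul_inv_cancel, one_mul, commutator_mul_right,
      commutatorElement_eq_one_iff_mul_comm.2 (D.W_comm hw' hk.2), mul_one, mul_inv_cancel, mul_one]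
    exact mul_mem (mul_mem (mul_mem hk.1 hk'.1) (inv_mem hk.1)) (inv_mem hk'.1)
  intro q hq
  obtain ⟨k, hk, w, hw, rfl⟩ := hsplit q hq
  obtain ⟨x, hx, z, hz, rfl⟩ := D.W_dec hw
  exact mul_mem hk.1 (mul_mem (hX hx) (hZ hz))

/-- An element centralising the module that normalises `Q V` normalises `Q`. -/
theorem mem_normQ_of_normS {c : G} (hc : c ∈ 𝐂) (hS : c ∈ normalizer ((𝐒 : Subgroup G) : Set G))
    : c ∈ normalizer (𝐐 : Set G) := by
  set τ' := c * D.τ * c⁻¹ with hτ'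
  have hB := D.B_le_normE
  have hτS : D.τ ∈ normalizer ((𝐒 : Subgroup G) : Set G) := D.mem_normS_of_normE (le_normalizer D.τ_mem)
  have hτ'S : τ' ∈ normalizer ((𝐒 : Subgroup G) : Set G) := mul_mem (mul_mem hS hτS) (inv_mem hS)
  have hτc : D.τ ∈ centMod 𝐏 𝐒 :=
    ⟨hτS, fun u hu => mem_sup_left (D.comm_mem_Q D.τ_mem hu)⟩
  have hτ'c : τ' ∈ centMod 𝐏 𝐒 :=
    conj_mem' (mem_normalizer_centMod (mem_normP c) hS) hτc
  have hl : ∀ A ∈ [𝐏, 𝐒, 𝐕, 𝐗, ⊥], A ≤ 𝐏 := by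
    simp [D.S_le_P, V_le_P, D.X_le_V.trans V_le_P]
  have hEl : ∀ A ∈ [𝐏, 𝐒, 𝐕, 𝐗, ⊥], normalizer (E : Set G) ≤ normalizer (A : Set G) := by
    simp only [List.forall_mem_cons, List.not_mem_nil, false_imp_iff, implies_true, and_true]
    exact ⟨fun g _ => mem_normP g, fun g hg => D.mem_normS_of_normE hg, fun g _ => mem_normV g,
      normE_le_X, by rw [normalizer_bot_eq_top]; exact le_top⟩
  have hk : D.τ * τ' ∈ stab [𝐏, 𝐒, 𝐕, 𝐗, ⊥] := by
    refine ⟨mul_mem hτc hτ'c, ⟨mem_normV _, fun s hs => ?_⟩, ⟨?_, ?_⟩, ⟨?_, ?_⟩, trivial⟩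
    · -- `τ` and `τ'` invert `Q V / V`
      have hi : ∀ t ∈ 𝐒, D.τ * t * D.τ⁻¹ * t ∈ 𝐕 := by
        intro t ht
        obtain ⟨q, hq, v, hv, rfl⟩ := D.S_dec ht
        have hτq : D.τ * q * D.τ⁻¹ ∈ 𝐐 := conj_mem' (normE_le_Q (le_normalizer D.τ_mem)) hq
        have hw : D.τ * q * D.τ⁻¹ * q ∈ 𝐖 := by
          rw [← D.qc_ker (mul_mem hτq hq), D.qc_mul hτq hq, D.τ_inv, D.qc_τ hq, neg_add_cancel]
        have hv' : D.τ * v * D.τ⁻¹ ∈ 𝐕 := conj_mem' (mem_normV _) hv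
        rw [show D.τ * (q * v) * D.τ⁻¹ * (q * v) =
          (D.τ * q * D.τ⁻¹) * (D.τ * v * D.τ⁻¹ * q) * v by group,
          ← D.VP_comm hv' (D.Q_le hq), ← mul_assoc]
        exact mul_mem (mul_mem (D.W_le hw) hv') hv
      have hi' : τ' * s * τ'⁻¹ * s ∈ 𝐕 := by
        have h := conj_mem' (mem_normV c) (hi _ (conj_mem' (inv_mem hS) hs))
        rw [show c * (D.τ * (c⁻¹ * s * c⁻¹⁻¹) * D.τ⁻¹ * (c⁻¹ * s * c⁻¹⁻¹)) * c⁻¹ = τ' * s * τ'⁻¹ * s by
          rw [hτ']; group] at h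
        exact h
      have hs' : τ' * s * τ'⁻¹ ∈ 𝐒 := conj_mem' hτ'S hs
      rw [show ⁅D.τ * τ', s⁆ = (D.τ * (τ' * s * τ'⁻¹) * D.τ⁻¹ * (τ' * s * τ'⁻¹)) *
        (τ' * s * τ'⁻¹ * 1)⁻¹ * s⁻¹ by rw [commutatorElement_def]; group, mul_one, mul_assoc, ← mul_inv_rev]
      refine mul_mem (hi _ hs') (inv_mem ?_)
      rw [show s * (τ' * s * τ'⁻¹) = s * (τ' * s * τ'⁻¹ * s) * s⁻¹ by group]
      exact conj_mem' (mem_normV s) hi'
    · exact mul_mem (normE_le_X (le_normalizer D.τ_mem))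
        (mul_mem (mul_mem (centralizer_le_normalizer _ hc) (normE_le_X (le_normalizer D.τ_mem)))
          (inv_mem (centralizer_le_normalizer _ hc)))
    · intro v hv
      rw [commutator_mul_left]
      refine mul_mem (conj_mem' (normE_le_X (le_normalizer D.τ_mem)) (D.comm_τ'_V hc hv)) ?_
      exact D.comm_E_V D.τ_mem hv
    · rw [normalizer_bot_eq_top]; trivial
    · intro x hx
      rw [mem_bot, commutatorElement_eq_one_iff_mul_comm]
      exact (mem_centralizer_iff.1 (D.ττ'_mem_C hc) x hx).symm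
  obtain ⟨w, hw, hwE, he⟩ := D.exists_conj_τ hl rfl rfl
    (fun A hA => le_normalizer.trans (hEl A hA)) (fun A hA => hB.trans (hEl A hA)) hk
  have hmap : ∀ g : G, g ∈ normalizer ((𝐒 : Subgroup G) : Set G) →
      (𝐐).map (MulAut.conj g).toMonoidHom = ⁅𝐒, zpowers (g * D.τ * g⁻¹)⁆ := fun g hg => by
    conv_lhs => rw [← D.commutator_S_τ]
    rw [map_commutator, LAE65.mem_normalizer_iff_map.1 hg, MonoidHom.map_zpowers]
    rfl
  rw [LAE65.mem_normalizer_iff_map, hmap c hS, he, ← hmap w (D.mem_normS_of_normE hwE)]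
  exact LAE65.mem_normalizer_iff_map.1 (normE_le_Q hwE)

end Cfsg.Agent.LAE62.Exc
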