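import Cfsg.Agent.LAE62.ExcMaps

/-!
The map from `Q/W` to `X` given by an element centralising `X` and `Q/W`.
-/

set_option autoImplicit false
set_option linter.unusedSectionVars false
set_option linter.unusedVariables false
set_option linter.style.haveILetI false

open Subgroup Cfsg
open scoped commutatorElement MatrixGroups
open Cfsg.Agent.PushUp62 (centMod commutator_mem_symm conj_commutator le_normalizer_of_conj
  commutator_mul_left commutator_mul_right mem_sup_of_le_normalizer conj_mem_of_le_normalizer')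

namespace Cfsg.Agent.LAE62.Exc

variable {G : Type*} [Group G] [Finite G] {T : Sylow 3 G} {E : Subgroup G} {F : Type} [Field F]
  (D : Exc T E F)

local notation "𝐏" => pCore 3 G
local notation "𝐕" => omegaOneCenter 3 (pCore 3 G)
local notation "𝐗" => modX 3 E
local notation "𝐐" => pCoreOf 3 E
local notation "𝐖" => omegaOneCenter 3 (pCoreOf 3 E)
local notation "𝐙" => (omegaOneCenter 3 (pCoreOf 3 E) ⊓ centralizer (E : Set G))
local notation "𝐂" => centralizer (modX 3 E : Set G)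

include D

/-- Elements commuting with the block on `Q/W`. -/
def CommY (c : G) : Prop :=
  ∀ e ∈ E, ∀ y, D.actY c (act (D.s e) y) = act (D.s e) (D.actY c y)

omit D in
/-- Elements centralising `X` and `Q/W`. -/
def TrivY (_D : Exc T E F) (x : G) : Prop := x ∈ 𝐂 ∧ x ∈ normalizer (𝐐 : Set G) ∧ ∀ q ∈ 𝐐, ⁅x, q⁆ ∈ 𝐖

theorem trivY_of_actY {x : G} (hc : x ∈ 𝐂) (hQ : x ∈ normalizer (𝐐 : Set G))
    (h : ∀ y, D.actY x y = y) : D.TrivY x := by
  refine ⟨hc, hQ, fun q hq => ?_⟩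
  have h' := conj_mem' hQ hq
  rw [commutatorElement_def, ← D.qc_ker (mul_mem h' (inv_mem hq)), D.qc_mul h' (inv_mem hq),
    ← D.actY_qc hQ hq, h, D.qc_inv hq, add_neg_cancel]

theorem actY_of_trivY {x : G} (hx : D.TrivY x) (y : Fin 2 → F) : D.actY x y = y := by
  obtain ⟨q, hq, rfl⟩ := D.qc_surj y
  rw [D.actY_qc hx.2.1 hq, show x * q * x⁻¹ = ⁅x, q⁆ * q by rw [commutatorElement_def]; group,
    D.qc_mul_W (hx.2.2 q hq) hq]

theorem trivY_conj {g x : G} (hg : g ∈ normalizer (𝐐 : Set G)) (hgX : g ∈ normalizer (𝐗 : Set G))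
    (hx : D.TrivY x) : D.TrivY (g * x * g⁻¹) := by
  refine ⟨conj_mem' (normX_le_C hgX) hx.1, mul_mem (mul_mem hg hx.2.1) (inv_mem hg), fun q hq => ?_⟩
  have h := conj_mem' (normQ_le_W hg) (hx.2.2 _ (conj_mem' (inv_mem hg) hq))
  rwa [conj_commutator, show g * (g⁻¹ * q * g⁻¹⁻¹) * g⁻¹ = q by group] at h

theorem px_comm_W {x w : G} (hx : D.TrivY x) (hw : w ∈ 𝐖) : D.px ⁅x, w⁆ = 0 := by
  have h' := conj_mem' (normQ_le_W hx.2.1) hw
  rw [commutatorElement_def, D.px_mul h' (inv_mem hw),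
    D.px_conj (centralizer_le_normalizer _ hx.1) hx.2.1 hw, D.actX_C hx.1, D.px_inv hw, add_neg_cancel]

theorem px_comm_congr {x q q' : G} (hx : D.TrivY x) (hq : q ∈ 𝐐) (hq' : q' ∈ 𝐐)
    (h : D.qc q = D.qc q') : D.px ⁅x, q⁆ = D.px ⁅x, q'⁆ := by
  have hw := (D.qc_eq_iff hq hq').1 h
  have hc : ⁅x, q'⁻¹ * q⁆ ∈ 𝐖 := hx.2.2 _ (mul_mem (inv_mem hq') hq)
  nth_rw 1 [show q = q' * (q'⁻¹ * q) by group]
  rw [comm_mul_right_central (D.W_comm hc hq'), D.px_mul (hx.2.2 q' hq') hc, D.px_comm_W hx hw,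
    add_zero]

/-- The map from `Q/W` to `X` given by commutation. -/
noncomputable def psi (x : G) (y : Fin 2 → F) : Fin 2 → F := D.px ⁅x, D.qlift y⁆

theorem psi_qc {x q : G} (hx : D.TrivY x) (hq : q ∈ 𝐐) : D.psi x (D.qc q) = D.px ⁅x, q⁆ :=
  D.px_comm_congr hx (D.qlift_mem _) hq (D.qc_qlift _)

theorem psi_add {x : G} (hx : D.TrivY x) (y z : Fin 2 → F) :
    D.psi x (y + z) = D.psi x y + D.psi x z := by
  obtain ⟨q, hq, rfl⟩ := D.qc_surj y
  obtain ⟨q', hq', rfl⟩ := D.qc_surj z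
  rw [← D.qc_mul hq hq', D.psi_qc hx (mul_mem hq hq'), D.psi_qc hx hq, D.psi_qc hx hq',
    comm_mul_right_central (D.W_comm (hx.2.2 q' hq') hq), D.px_mul (hx.2.2 q hq) (hx.2.2 q' hq')]

theorem psi_conj {g x : G} (hg : g ∈ normalizer (𝐐 : Set G)) (hgX : g ∈ normalizer (𝐗 : Set G))
    (hx : D.TrivY x) (y : Fin 2 → F) :
    D.psi (g * x * g⁻¹) (D.actY g y) = D.actX g (D.psi x y) := by
  obtain ⟨q, hq, rfl⟩ := D.qc_surj y
  rw [D.actY_qc hg hq, D.psi_qc (D.trivY_conj hg hgX hx) (conj_mem' hg hq), ← conj_commutator,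
    D.px_conj hgX hg (hx.2.2 q hq), D.psi_qc hx hq]

/-- The failure of `psi x` to commute with an element of the block. -/
noncomputable def delta (x e : G) (y : Fin 2 → F) : Fin 2 → F :=
  act (D.r e) (D.psi x (act (D.s e⁻¹) y)) - D.psi x y

theorem psi_eq_delta {x e : G} (hx : D.TrivY x) (he : e ∈ E) (y : Fin 2 → F) :
    D.TrivY ⁅e, x⁆ ∧ D.psi ⁅e, x⁆ y = D.delta x e y := by
  have heQ := normE_le_Q (le_normalizer he)
  have heX := normE_le_X (le_normalizer he)
  set x' := e * x * e⁻¹ with hx'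
  have hx'T : D.TrivY x' := D.trivY_conj heQ heX hx
  have hxi : D.TrivY x⁻¹ := D.trivY_of_actY (inv_mem hx.1) (inv_mem hx.2.1) fun z => by
    have h := D.actY_mul (inv_mem hx.2.1) hx.2.1 z
    rwa [inv_mul_cancel, D.actY_one, D.actY_of_trivY hx, eq_comm] at h
  have hk : D.TrivY ⁅e, x⁆ := by
    rw [commutatorElement_def]
    refine D.trivY_of_actY (mul_mem hx'T.1 hxi.1) (mul_mem hx'T.2.1 hxi.2.1) fun z => ?_
    rw [D.actY_mul hx'T.2.1 hxi.2.1, D.actY_of_trivY hxi, D.actY_of_trivY hx'T]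
  refine ⟨hk, ?_⟩
  obtain ⟨q, hq, rfl⟩ := D.qc_surj y
  rw [D.psi_qc hk hq, show ⁅e, x⁆ = x' * x⁻¹ from commutatorElement_def e x, commutator_mul_left]
  have hw := hxi.2.2 q hq
  rw [D.px_mul (conj_mem' (normQ_le_W hx'T.2.1) hw) (hx'T.2.2 q hq),
    D.px_conj (centralizer_le_normalizer _ hx'T.1) hx'T.2.1 hw, D.actX_C hx'T.1, ← D.psi_qc hx'T hq]
  have h1 : D.px ⁅x⁻¹, q⁆ = -D.psi x (D.qc q) := by
    rw [eq_neg_iff_add_eq_zero]
    have h2 : ⁅x * x⁻¹, q⁆ = x * ⁅x⁻¹, q⁆ * x⁻¹ * ⁅x, q⁆ := commutator_mul_left _ _ _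
    rw [mul_inv_cancel, commutatorElement_one_left] at h2
    have h3 := congrArg D.px h2
    rw [(D.px_eq_zero (one_mem _)).2 (one_mem _), D.px_mul (conj_mem' (normQ_le_W hx.2.1) hw) (hx.2.2 q hq),
      D.px_conj (centralizer_le_normalizer _ hx.1) hx.2.1 hw, D.actX_C hx.1, ← D.psi_qc hx hq] at h3
    exact h3.symm
  rw [h1, delta]
  have hei : e⁻¹ ∈ E := inv_mem he
  obtain ⟨q', hq', e'⟩ := D.qc_surj (act (D.s e⁻¹) (D.qc q))
  rw [← e', ← D.actX_E he, ← D.psi_conj heQ heX hx, D.actY_E he, e', D.s_inv he, ← act_mul,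
    mul_inv_cancel, act_one, neg_add_eq_sub]

theorem delta_equivariant {x e e' : G} (hx : D.TrivY x) (he : e ∈ E) (he' : e' ∈ E) (y : Fin 2 → F) :
    act (D.r e') (D.delta x e (act (D.s e'⁻¹) y)) = D.delta x e y := by
  obtain ⟨hk, hδ⟩ := D.psi_eq_delta hx he y
  rw [← hδ, ← (D.psi_eq_delta hx he _).2]
  set k := ⁅e, x⁆ with hkdef
  have hkE : k ∈ normalizer (E : Set G) := by
    refine stab_le_normalizer D.hG D.hE (l := [𝐏, 𝐐, 𝐖, 𝐗, ⊥]) ?_ rfl rfl ?_ ?_ ?_
    · simp [D.Q_le, D.W_le_P, D.X_le_V.trans V_le_P]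
    · simp only [List.forall_mem_cons, List.not_mem_nil, false_imp_iff, implies_true, and_true]
      exact ⟨fun g _ => mem_normP g, le_normalizer.trans normE_le_Q,
        le_normalizer.trans (normE_le_Q.trans normQ_le_W), le_normalizer.trans normE_le_X,
        by rw [normalizer_bot_eq_top]; exact le_top⟩
    · have hB := D.B_le_normE
      simp only [List.forall_mem_cons, List.not_mem_nil, false_imp_iff, implies_true, and_true]
      exact ⟨fun g _ => mem_normP g, hB.trans normE_le_Q, hB.trans (normE_le_Q.trans normQ_le_W),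
        hB.trans normE_le_X, by rw [normalizer_bot_eq_top]; exact le_top⟩
    · have heQ := normE_le_Q (le_normalizer he)
      refine ⟨?_, ?_, ?_, ?_, trivial⟩
      · exact comm_mem_centMod' (mem_normP x) hx.2.1 ⟨heQ, fun u hu => D.comm_mem_Q he hu⟩
      · exact comm_mem_centMod heQ (normQ_le_W heQ) ⟨normQ_le_W hx.2.1, hx.2.2⟩
      · exact comm_mem_centMod' (normQ_le_W hx.2.1) (centralizer_le_normalizer _ hx.1)
          ⟨normE_le_X (le_normalizer he), fun w hw => D.comm_E_V he (D.W_le hw)⟩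
      · refine comm_mem_centMod (normE_le_X (le_normalizer he)) (by rw [normalizer_bot_eq_top]; trivial)
          ⟨by rw [normalizer_bot_eq_top]; trivial, fun z hz => ?_⟩
        rw [mem_bot, commutatorElement_eq_one_iff_mul_comm]
        exact (mem_centralizer_iff.1 hx.1 z hz).symm
  have he'Q := normE_le_Q (le_normalizer he')
  have he'X := normE_le_X (le_normalizer he')
  set n := ⁅k, e'⁆ with hn
  have hnQ : n ∈ 𝐐 := by
    refine D.mem_Q_of_mem_C (mul_mem (conj_mem' hkE he') (inv_mem he')) ?_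
    rw [hn, commutatorElement_def, show k * e' * k⁻¹ * e'⁻¹ = k * (e' * k⁻¹ * e'⁻¹) by group]
    exact mul_mem hk.1 (conj_mem' (normX_le_C he'X) (inv_mem hk.1))
  obtain ⟨q, hq, rfl⟩ := D.qc_surj y
  have h1 := D.psi_conj he'Q he'X hk (act (D.s e'⁻¹) (D.qc q))
  rw [D.actX_E he', D.actY_E he', D.s_inv he', ← act_mul, mul_inv_cancel, act_one] at h1
  rw [D.s_inv he', ← h1, D.psi_qc (D.trivY_conj he'Q he'X hk) hq, D.psi_qc hk hq,
    show e' * k * e'⁻¹ = n⁻¹ * k by rw [hn, commutatorElement_def]; group, commutator_mul_left]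
  have hw := hk.2.2 q hq
  have hz : ⁅n⁻¹, q⁆ ∈ 𝐙 := D.der ▸ commutator_mem_commutator (inv_mem hnQ) hq
  rw [D.W_comm hw (inv_mem hnQ), mul_inv_cancel_right, D.px_mul hw hz.1, (D.px_eq_zero hz.1).2 hz,
    add_zero]

theorem delta_mul {x e e' : G} (hx : D.TrivY x) (he : e ∈ E) (he' : e' ∈ E) (y : Fin 2 → F) :
    D.delta x (e' * e) y = D.delta x e y + D.delta x e' y := by
  rw [← D.delta_equivariant hx he he' y]
  simp only [delta]
  rw [mul_inv_rev, D.s_mul (inv_mem he) (inv_mem he'), D.r_mul he' he, act_mul, act_mul]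
  rw [show act (D.r e') (act (D.r e) (D.psi x (act (D.s e⁻¹) (act (D.s e'⁻¹) y))) -
    D.psi x (act (D.s e'⁻¹) y)) = act (D.r e') (act (D.r e) (D.psi x (act (D.s e⁻¹) (act (D.s e'⁻¹) y)))) -
      act (D.r e') (D.psi x (act (D.s e'⁻¹) y)) from Matrix.mulVec_sub _ _ _]
  abel

/-- `psi x` commutes with the block. -/
theorem psi_equivariant {x e : G} (hx : D.TrivY x) (he : e ∈ E) (y : Fin 2 → F) :
    D.psi x (act (D.s e) y) = act (D.r e) (D.psi x y) := by
  let φ : ↥E →* Multiplicative ((Fin 2 → F) → (Fin 2 → F)) :=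
    MonoidHom.mk' (fun a => Multiplicative.ofAdd (D.delta x (a : G))) fun a b => by
      apply Multiplicative.toAdd.injective
      funext z
      show D.delta x ((a : G) * b) z = _
      rw [D.delta_mul hx b.2 a.2, add_comm]
      rfl
  have hle : E ≤ φ.ker.map E.subtype := by
    refine LAE65.Block.le_of_coprime D.hE.1 fun a ha hcop => ⟨⟨a, ha⟩, ?_, rfl⟩
    rw [SetLike.mem_coe, MonoidHom.mem_ker]
    refine orderOf_eq_one_iff.1 (Nat.eq_one_of_dvd_coprimes hcop ?_ ?_)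
    · have h := orderOf_map_dvd φ ⟨a, ha⟩
      rwa [Subgroup.orderOf_mk] at h
    · refine orderOf_dvd_of_pow_eq_one (Multiplicative.toAdd.injective ?_)
      funext z i
      rw [toAdd_pow, toAdd_one]
      simp only [Pi.smul_apply, Pi.zero_apply, nsmul_eq_mul, Nat.cast_ofNat, D.h3, zero_mul]
  obtain ⟨a, ha, ha'⟩ := hle he
  have h : D.delta x e (act (D.s e) y) = 0 := by
    rw [← ha']
    exact congrFun (congrArg Multiplicative.toAdd (MonoidHom.mem_ker.1 ha)) _
  rw [delta, D.s_inv he, act_inv_act, sub_eq_zero] at h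
  exact h.symm

/-- If some element does not commute with the block on `Q/W`, then elements centralising `X` and `Q/W`
centralise `Q/Z`. -/
theorem comm_mem_Z_of_noncomm {c x q : G} (hc : c ∈ 𝐂) (hcQ : c ∈ normalizer (𝐐 : Set G))
    (hn : ¬ D.CommY c) (hx : D.TrivY x) (hq : q ∈ 𝐐) : ⁅x, q⁆ ∈ 𝐙 := by
  haveI := D.finite_F
  haveI := Fintype.ofFinite F
  have hcX := centralizer_le_normalizer _ hc
  set x' := c * x * c⁻¹ with hx'
  have hx'T : D.TrivY x' := D.trivY_conj hcQ hcX hx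
  have hc' : ∀ y, D.psi x' (D.actY c y) = D.psi x y := fun y => by
    rw [D.psi_conj hcQ hcX hx, D.actX_C hc]
  simp only [CommY] at hn
  push Not at hn
  obtain ⟨e, he, y, hne⟩ := hn
  let U : AddSubgroup (Fin 2 → F) := (AddMonoidHom.mk' (D.psi x') (D.psi_add hx'T)).ker
  have hU : U = ⊤ := by
    refine LAE65.Block.sl2_derived_span U (v := D.actY c (act (D.s e) y) - act (D.s e) (D.actY c y)) ?_
      (sub_ne_zero.2 hne) fun g hg w hw => ?_
    · show AddMonoidHom.mk' (D.psi x') _ _ = 0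
      rw [map_sub, sub_eq_zero]
      show D.psi x' _ = D.psi x' _
      rw [hc', D.psi_equivariant hx he, D.psi_equivariant hx'T he, hc']
    · obtain ⟨e', he', rfl⟩ := D.s_surj g hg
      show D.psi x' (act (D.s e') w) = 0
      rw [D.psi_equivariant hx'T he', show D.psi x' w = 0 from hw]
      funext i
      simp [act_apply]
  rw [← D.px_eq_zero (hx.2.2 q hq), ← D.psi_qc hx hq, ← hc']
  exact (AddMonoidHom.mem_ker (f := AddMonoidHom.mk' (D.psi x') (D.psi_add hx'T))).1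
    (show D.actY c (D.qc q) ∈ U by rw [hU]; trivial)

end Cfsg.Agent.LAE62.Exc
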