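import Cfsg.Agent.LAE62.ExcPsi
import Cfsg.Agent.Lib.Thompson.Replacement

/-!
A quadratic element of the Baumann subgroup acting quadratically on `X` and on `Q/W`.
-/

set_option autoImplicit false
set_option linter.unusedSectionVars false
set_option linter.unusedVariables false
set_option linter.style.haveILetI false

open Subgroup Cfsg
open scoped commutatorElement MatrixGroups
open Cfsg.Agent.PushUp62 (centMod commutator_mem_symm conj_commutator le_normalizer_of_conj
  commutator_mul_left commutator_mul_right mem_sup_of_le_normalizer conj_mem_of_le_normalizer')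

namespace Cfsg.Agent.LAE62

/-- An elementary abelian subgroup of greatest order is a best offender on the elementary abelian
subgroups that it normalises. -/
theorem bestOffender_of_max' {G : Type*} [Group G] [Finite G] {p : ℕ} {V A : Subgroup G}
    (hV : IsElementaryAbelian p V) (hA : A ∈ maxElementaryAbelianSubgroups p G) :
    IsBestOffenderOn p V A := by
  refine ⟨fun B hB => ?_, ?_, fun a ha => by rw [hA.1.2 a ha]; exact one_mem _⟩
  · set P := V ⊓ Subgroup.centralizer (B : Set G) with hP
    have hBe : IsElementaryAbelian p B := Thompson.isElementaryAbelian_of_le hA.1 hB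
    have hc : P ≤ Subgroup.centralizer (B : Set G) := inf_le_right
    have hE : IsElementaryAbelian p (P ⊔ B : Subgroup G) :=
      Thompson.isElementaryAbelian_sup (Thompson.isElementaryAbelian_of_le hV inf_le_left) hBe hc
    have hle := hA.2 _ hE
    have hcard := Thompson.card_sup_mul_card_inf (H := P) (K := B)
      ((Subgroup.le_centralizer_iff.mp hc).trans (Subgroup.centralizer_le_normalizer _))
    have hin : P ⊓ B ≤ V ⊓ Subgroup.centralizer (A : Set G) :=
      le_inf (inf_le_left.trans inf_le_left)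
        ((inf_le_right.trans hB).trans (Thompson.le_centralizer_self hA.1.1))
    rw [mul_comm, ← hcard]
    exact Nat.mul_le_mul hle (Subgroup.card_le_of_le hin)
  · rw [Subgroup.commutator_self_eq_bot_iff.mpr hA.1.1]
    exact bot_le

/-- A linear nilpotent map of the plane squares to zero. -/
theorem sq_zero_of_cube {F : Type} [Field F] {M : Matrix (Fin 2) (Fin 2) F} (h : M * M * M = 0) :
    M * M = 0 := by
  have hd : M.det = 0 := by
    have := congrArg Matrix.det h
    rw [Matrix.det_mul, Matrix.det_mul, Matrix.det_zero] at this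
    simpa using this
  rw [Matrix.det_fin_two] at hd
  have hsq : M * M = (M 0 0 + M 1 1) • M := by
    ext i j
    fin_cases i <;> fin_cases j <;>
      simp [Matrix.mul_apply, Fin.sum_univ_two] <;>
      first | ring1 | linear_combination -hd
  rw [hsq, Matrix.smul_mul, hsq, smul_smul, smul_eq_zero] at h
  rcases h with h | h
  · rw [hsq, mul_self_eq_zero.1 h, zero_smul]
  · rw [h, zero_mul]

namespace Exc

variable {G : Type*} [Group G] [Finite G] {T : Sylow 3 G} {E : Subgroup G} {F : Type} [Field F]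
  (D : Exc T E F)

local notation "𝐏" => pCore 3 G
local notation "𝐕" => omegaOneCenter 3 (pCore 3 G)
local notation "𝐗" => modX 3 E
local notation "𝐐" => pCoreOf 3 E
local notation "𝐖" => omegaOneCenter 3 (pCoreOf 3 E)
local notation "𝐙" => (omegaOneCenter 3 (pCoreOf 3 E) ⊓ centralizer (E : Set G))
local notation "𝐂" => centralizer (modX 3 E : Set G)

include D

/-- There is a quadratic element in the Baumann subgroup. -/
theorem exists_quad : ∃ b ∈ baumannSubgroupOf 3 (T : Subgroup G), b ^ 3 = 1 ∧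
    b ∉ centralizer (𝐖 : Set G) ∧ ∀ x ∈ 𝐗, ⁅⁅x, b⁆, b⁆ = 1 := by
  have hJ : ¬ thompsonSubgroupOf 3 (T : Subgroup G) ≤ centralizer (𝐗 : Set G) := fun h =>
    LAE65.Block.module_not_centralized D.hG D.hE
      (commutator_eq_bot_iff_le_centralizer.2 (le_centralizer_iff.1 h))
  obtain ⟨A, hA, hAne⟩ : ∃ A, Thompson.IsMaxEAIn 3 A (T : Subgroup G) ∧ ¬ A ≤ centralizer (𝐗 : Set G) := by
    by_contra hcon
    push Not at hcon
    apply hJ
    rw [Thompson.thompsonSubgroupOf_eq]
    exact sSup_le fun A hA => hcon A hA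
  have hAB : A ≤ baumannSubgroupOf 3 (T : Subgroup G) :=
    (Thompson.le_thompsonSubgroupOf hA).trans (LAE65.Block.thompson_le_baumann _)
  have hAX : A ≤ normalizer (𝐗 : Set G) := (hAB.trans D.B_le_normE).trans normE_le_X
  have hXel : IsElementaryAbelian 3 𝐗 :=
    Thompson.isElementaryAbelian_of_le (LAE65.Block.isElementaryAbelian_omegaOneCenter _) D.X_le_W
  have hAmax := Thompson.isMaxEAIn_sylow_iff T hA
  obtain ⟨-, -, hne⟩ := Thompson.bestOffender_replacement (Thompson.isPGroup_of_isElementaryAbelian hXel)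
    hXel.1 hAX (bestOffender_of_max' hXel hAmax) (le_refl 𝐗)
  have hne' := hne fun h => hAne (le_centralizer_iff.1 (commutator_eq_bot_iff_le_centralizer.1 h))
  set A' := A ⊓ centralizer ((⁅𝐗, A⁆ : Subgroup G) : Set G) with hA'
  obtain ⟨b, hb, hbX⟩ : ∃ b ∈ A', b ∉ centralizer (𝐗 : Set G) :=
    SetLike.not_le_iff_exists.1 fun h =>
      hne' (commutator_eq_bot_iff_le_centralizer.2 (le_centralizer_iff.1 h))
  refine ⟨b, hAB hb.1, hAmax.1.2 b hb.1, fun h => hbX (centralizer_le D.X_le_W h), fun x hx => ?_⟩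
  rw [commutatorElement_eq_one_iff_mul_comm]
  exact mem_centralizer_iff.1 hb.2 _ (commutator_mem_commutator hx hb.1)

/-- A quadratic element on `X` is quadratic on `Q/W`. -/
theorem quadY {b : G} (hbE : b ∈ normalizer (E : Set G)) (hb3 : b ^ 3 = 1)
    (hbX : ∀ x ∈ 𝐗, ⁅⁅x, b⁆, b⁆ = 1) (y : Fin 2 → F) :
    D.actY b (D.actY b y) - (2 : ℕ) • D.actY b y + y = 0 := by
  have hX := normE_le_X hbE
  have hQ := normE_le_Q hbE
  have hXq : ∀ v, D.actX b (D.actX b v) - (2 : ℕ) • D.actX b v + v = 0 := fun v => by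
    obtain ⟨x, hx, rfl⟩ := D.xc_surj v
    have hx' := conj_mem' hX (inv_mem hx)
    have hy : ⁅x, b⁆ = x * (b * x⁻¹ * b⁻¹) := by rw [commutatorElement_def]; group
    have hym : ⁅x, b⁆ ∈ 𝐗 := hy ▸ mul_mem hx hx'
    have h := congrArg D.xc (show ⁅⁅x, b⁆, b⁆ = ⁅x, b⁆ * (b * ⁅x, b⁆⁻¹ * b⁻¹) by
      rw [commutatorElement_def ⁅x, b⁆]; group)
    rw [hbX x hx, D.xc_one, D.xc_mul hym (conj_mem' hX (inv_mem hym)), ← D.actX_xc hX (inv_mem hym),
      D.xc_inv hym, map_neg, hy, D.xc_mul hx hx', ← D.actX_xc hX (inv_mem hx), D.xc_inv hx, map_neg,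
      map_add, map_neg] at h
    rw [h, two_nsmul]
    abel
  have hY3 : ∀ v, D.actY b (D.actY b (D.actY b v)) = v := fun v => by
    rw [← D.actY_mul hQ hQ, ← D.actY_mul (mul_mem hQ hQ) hQ, ← sq, ← pow_succ, hb3, D.actY_one]
  have hX3 : ∀ v, D.actX b (D.actX b (D.actX b v)) = v := fun v => by
    rw [← D.actX_mul hX hX, ← D.actX_mul (mul_mem hX hX) hX, ← sq, ← pow_succ, hb3, D.actX_one]
  rcases perfect_or_small (F := F) with htop | hF
  · -- the action on `X` is linear
    have hsemi : ∀ c : F, ∃ σ : F, ∀ v, D.actX b (c • D.actX b⁻¹ v) = σ • v := fun c => by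
      obtain ⟨σ, hσ⟩ := exists_scalar D.h3 ((D.actX b).comp
        ((DistribSMul.toAddMonoidHom (Fin 2 → F) c).comp (D.actX b⁻¹))) fun g hg v => by
        obtain ⟨e, he, rfl⟩ := D.r_surj g hg
        simp only [AddMonoidHom.comp_apply, DistribSMul.toAddMonoidHom_apply]
        rw [D.actX_conj (inv_mem hbE) he, ← act_smul, D.actX_conj hbE (conj_mem' (inv_mem hbE) he),
          show b * (b⁻¹ * e * b⁻¹⁻¹) * b⁻¹ = e by group]
      exact ⟨σ, hσ⟩
    choose σ hσ using hsemi
    have hinv : ∀ v, D.actX b⁻¹ (D.actX b v) = v := fun v => by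
      rw [← D.actX_mul (inv_mem hX) hX, inv_mul_cancel, D.actX_one]
    have hinj : Function.Injective (D.actX b) := fun u v h => by rw [← hinv u, h, hinv]
    have hlin := linear_of_quadratic D.h3 (D.actX b) hinj σ
      (fun c v => by rw [← hσ, hinv]) hXq
    obtain ⟨g, hg⟩ := exists_SL_of_quadratic (D.actX b) hlin hXq
    obtain ⟨e, he, rfl⟩ := D.r_surj g (htop ▸ trivial)
    set b' := e⁻¹ * b with hb'
    have hb'E : b' ∈ normalizer (E : Set G) := mul_mem (le_normalizer (inv_mem he)) hbE
    have hb'C : b' ∈ 𝐂 := mem_centralizer_iff.2 fun x hx => by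
      have h : b' * x * b'⁻¹ = x := D.xc_injective (conj_mem' (normE_le_X hb'E) hx) hx (by
        rw [← D.actX_xc (normE_le_X hb'E) hx, hb', D.actX_mul (normE_le_X (le_normalizer (inv_mem he))) hX,
          D.actX_E (inv_mem he), D.r_inv he, hg, act_inv_act])
      conv_lhs => rw [← h]
      group
    obtain ⟨lam, hlam⟩ := exists_scalar D.h3 (D.actY b') fun g hg v => by
      obtain ⟨e', he', rfl⟩ := D.s_surj g hg
      rw [D.actY_conj hb'E he']
      congr 1
      have hce : b' * e' * b'⁻¹ * e'⁻¹ ∈ 𝐐 := by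
        refine D.mem_Q_of_mem_C (mul_mem (conj_mem' hb'E he') (inv_mem he')) ?_
        rw [show b' * e' * b'⁻¹ * e'⁻¹ = b' * (e' * b'⁻¹ * e'⁻¹) by group]
        exact mul_mem hb'C (conj_mem' (normX_le_C (normE_le_X (le_normalizer he'))) (inv_mem hb'C))
      have h1 := (D.s_ker (mul_mem (conj_mem' hb'E he') (inv_mem he'))).2 hce
      rw [D.s_mul (conj_mem' hb'E he') (inv_mem he'), D.s_inv he'] at h1
      exact mul_inv_eq_one.1 h1
    have hbY : ∀ v, D.actY b v = lam • act (D.s e) v := fun v => by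
      rw [show b = e * b' by rw [hb']; group, D.actY_mul (normE_le_Q (le_normalizer he)) (normE_le_Q hb'E),
        D.actY_E he, hlam, act_smul]
    have hr3 : D.r e ^ 3 = 1 := act_eq_of_forall fun v => by
      rw [pow_succ, sq, act_mul, act_mul, ← hg, ← hg, ← hg, hX3]
    have hs3 : D.s e ^ 3 = 1 := by
      have hq : e * e * e ∈ 𝐐 := (D.r_ker (mul_mem (mul_mem he he) he)).1 (by
        rw [D.r_mul (mul_mem he he) he, D.r_mul he he, ← sq, ← pow_succ, hr3])
      have h := (D.s_ker (mul_mem (mul_mem he he) he)).2 hq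
      rwa [D.s_mul (mul_mem he he) he, D.s_mul he he, ← sq, ← pow_succ] at h
    have hl3 : lam ^ 3 = 1 := by
      have h := hY3 ![1, 0]
      rw [hbY, hbY, hbY, act_smul, smul_smul, act_smul, act_smul, smul_smul, ← act_mul, ← act_mul,
        show D.s e * D.s e * D.s e = 1 by rw [← sq, ← pow_succ, hs3], act_one] at h
      have h0 := congrFun h 0
      simp only [Pi.smul_apply, smul_eq_mul, Matrix.cons_val_zero, mul_one] at h0
      linear_combination h0
    have hl : lam = 1 := sub_eq_zero.1 ((pow_eq_zero_iff (n := 3) (by norm_num)).1 (by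
      linear_combination hl3 - (lam ^ 2 - lam) * D.h3))
    rw [hbY, hbY, hl, one_smul, one_smul]
    exact quadratic_of_pow_three D.h3 hs3 y
  · -- over the prime field the action is linear
    let L : (Fin 2 → F) →ₗ[F] (Fin 2 → F) :=
      { toFun := D.actY b, map_add' := map_add _, map_smul' := fun c v => smul_of_small hF _ c v }
    set M := LinearMap.toMatrix' L with hM
    have hMv : ∀ v, M.mulVec v = D.actY b v := fun v => by
      rw [hM, LinearMap.toMatrix'_mulVec]; rfl
    have h3M : (M - 1) * (M - 1) * (M - 1) = 0 := by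
      have hM3 : M * M * M = 1 := by
        apply Matrix.toLin'.injective
        refine LinearMap.ext fun v => ?_
        rw [Matrix.toLin'_apply, Matrix.toLin'_apply, ← Matrix.mulVec_mulVec, ← Matrix.mulVec_mulVec, hMv,
          hMv, hMv, hY3, Matrix.one_mulVec]
      have e : (M - 1) * (M - 1) * (M - 1) = M * M * M - (3 : ℕ) • (M * M) + (3 : ℕ) • M - 1 := by
        simp only [mul_sub, sub_mul, mul_one, one_mul]; abel
      rw [e, hM3, ← Nat.cast_smul_eq_nsmul F, ← Nat.cast_smul_eq_nsmul F, Nat.cast_ofNat, D.h3, zero_smul,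
        zero_smul, sub_zero, add_zero, sub_self]
    have h2 := congrArg (fun N => Matrix.mulVec N y) (sq_zero_of_cube h3M)
    simp only [mul_sub, sub_mul, mul_one, one_mul, Matrix.sub_mulVec, Matrix.one_mulVec,
      ← Matrix.mulVec_mulVec, hMv, Matrix.zero_mulVec] at h2
    rw [← h2, two_nsmul]
    abel

end Exc

end Cfsg.Agent.LAE62
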