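import Cfsg.Agent.LAE62.ExcModule

/-!
A conjugate of `τ` under the centralizer of the module acts on `Q/W` as `-1`.
-/

set_option autoImplicit false
set_option linter.unusedSectionVars false
set_option linter.unusedVariables false
set_option linter.style.haveILetI false

open Subgroup Cfsg
open scoped commutatorElement MatrixGroups IsMulCommutative
open Cfsg.Agent.PushUp62 (centMod commutator_mem_symm conj_commutator le_normalizer_of_conj
  commutator_mul_left commutator_mul_right mem_sup_of_le_normalizer conj_mem_of_le_normalizer')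

namespace Cfsg.Agent.LAE62

attribute [local instance] omegaPCore_comm omegaPCore_normal

theorem iMat_not_scalar {F : Type} [Field F] (c : F) : ¬ ∀ y, act (iMat : SL(2, F)) y = c • y := fun h => by
  have := congrFun (h ![1, 0]) 1
  simp [act_apply, iMat_coe] at this

namespace Exc

variable {G : Type*} [Group G] [Finite G] {T : Sylow 3 G} {E : Subgroup G} {F : Type} [Field F]
  (D : Exc T E F)

local notation "𝐏" => pCore 3 G
local notation "𝐕" => omegaOneCenter 3 (pCore 3 G)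
local notation "𝐗" => modX 3 E
local notation "𝐐" => pCoreOf 3 E
local notation "𝐂" => centralizer (modX 3 E : Set G)
local notation "𝐔" => spanU E
local notation "𝐒" => (pCoreOf 3 E ⊔ omegaOneCenter 3 (pCore 3 G))
local notation "π₀" => QuotientGroup.mk' (omegaOneCenter 3 (pCore 3 G))

include D

/-- No element of `C(X)` acts on `Q V/V` like a nonscalar element of `SL₂`. -/
theorem false_of_act {k : G} (hk : k ∈ 𝐂) {h : SL(2, F)} (hh : ∀ c : F, ¬ ∀ y, act h y = c • y)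
    (hact : ∀ y, π₀ k * D.jv y * (π₀ k)⁻¹ = D.jv (act h y)) : False := by
  have hq : ∀ q ∈ 𝐐, π₀ (k * q * k⁻¹) = D.jv (act h (D.qc q)) := fun q hq => by
    rw [map_mul, map_mul, map_inv, ← D.jv_qc hq, hact]
  have hS : k ∈ normalizer ((𝐒 : Subgroup G) : Set G) := by
    refine LocalEven62.mem_normalizer_of_conj_mem fun u hu => ?_
    obtain ⟨q, hq', v, hv, rfl⟩ := D.S_dec hu
    rw [show k * (q * v) * k⁻¹ = (k * q * k⁻¹) * (k * v * k⁻¹) by group]
    refine mul_mem ?_ (mem_sup_right (conj_mem' (mem_normV k) hv))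
    have h1 := mk_eq_iff.1 (hq q hq').symm
    rw [show k * q * k⁻¹ = D.qlift (act h (D.qc q)) * ((D.qlift (act h (D.qc q)))⁻¹ * (k * q * k⁻¹)) by group]
    exact mul_mem (mem_sup_left (D.qlift_mem _)) (mem_sup_right h1)
  have hQ := D.mem_normQ_of_normS hk hS
  have hY : ∀ y, D.actY k y = act h y := fun y => by
    obtain ⟨q, hq', rfl⟩ := D.qc_surj y
    rw [D.actY_qc hQ hq', ← D.pi_Q (conj_mem' hQ hq'),
      D.pi_mk (D.Q_le (D.qlift_mem _)) (hq q hq').symm, D.pi_qlift]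
  obtain ⟨c, hc⟩ := exists_scalar D.h3 (D.actY k) fun g hg y => by
    obtain ⟨e, he, rfl⟩ := D.s_surj g hg
    exact D.commY hk hQ e he y
  exact hh c fun y => by rw [← hY, hc]

/-- The scalar of a conjugate of `τ` is `-1`. -/
theorem scalar_eq_neg_one {c : G} (hc : c ∈ 𝐂) {a : F}
    (ha : ∀ q ∈ 𝐐, D.pi ((c * D.τ * c⁻¹) * q * (c * D.τ * c⁻¹)⁻¹) = a • D.qc q) : a = -1 := by
  by_contra hne
  set t := c * D.τ * c⁻¹ with ht
  have htt : t * t = 1 := D.τ'_sq c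
  have htU := D.τ'_normU hc
  have htC : D.τ * t ∈ 𝐂 := D.ττ'_mem_C hc
  obtain ⟨ei, hei, hsi⟩ := D.s_surj iMat (iMat_mem D.h3)
  by_cases h1 : a = 1
  · -- `a = 1`
    subst h1
    simp only [one_smul] at ha
    set c'' := t * D.τ * c with hc''
    have hc''C : c'' ∈ 𝐂 := by
      have h := inv_mem htC
      rw [mul_inv_rev, inv_eq_of_mul_eq_one_right htt, D.τ_inv] at h
      exact mul_mem h hc
    have horth : ∀ q ∈ 𝐐, D.pi (c'' * q * c''⁻¹) = 0 := by
      intro q hq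
      set u' := c * q * c⁻¹ with hu'
      have hu'U : u' ∈ 𝐔 := conj_Q_mem_U hc hq
      have hu'P := D.U_le_P hu'U
      have htneg : D.pi (t * u' * t⁻¹) = -D.pi u' := by
        rw [← D.pi_inv hu'P]
        refine D.pi_mk (inv_mem hu'P) ?_
        rw [hu', show t * (c * q * c⁻¹) * t⁻¹ = c * (D.τ * q * D.τ⁻¹) * c⁻¹ by rw [ht]; group]
        simp only [map_mul, map_inv]
        rw [D.mk_conj_τ_Q hq]
        group
      obtain ⟨q', hq', e, he⟩ := D.exists_dec hu'P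
      set f := q'⁻¹ * u' with hf
      have hfU : f ∈ 𝐔 := mul_mem (inv_mem (Q_le_U hq')) hu'U
      have hfP := D.U_le_P hfU
      have htq : ∀ {q}, q ∈ 𝐐 → t * q * t⁻¹ ∈ 𝐏 := fun hq => conj_mem' (mem_normP t) (D.Q_le hq)
      have htf : D.pi (t * f * t⁻¹) = -D.pi u' - D.pi u' := by
        have e1 : t * u' * t⁻¹ = (t * q' * t⁻¹) * (t * f * t⁻¹) := by rw [hf]; group
        rw [e1, D.pi_mul (htq hq') (conj_mem' (mem_normP t) hfP), ha q' hq', e] at htneg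
        rw [eq_sub_iff_add_eq', htneg]
      rw [show c'' * q * c''⁻¹ = t * (D.τ * u' * D.τ⁻¹) * t⁻¹ by rw [hc'', hu']; group]
      have hmk : π₀ (t * (q'⁻¹ * f) * t⁻¹) = π₀ (t * (D.τ * u' * D.τ⁻¹) * t⁻¹) := by
        rw [show D.τ * u' * D.τ⁻¹ = (D.τ * q' * D.τ⁻¹) * (D.τ * f * D.τ⁻¹) by rw [hf]; group]
        simp only [map_mul, map_inv]
        rw [D.mk_conj_τ_Q hq', D.mk_conj_E_of_pi D.τ_mem hfP he]
      rw [D.pi_mk (conj_mem' (mem_normP t) (mul_mem (inv_mem (D.Q_le hq')) hfP)) hmk,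
        show t * (q'⁻¹ * f) * t⁻¹ = (t * q'⁻¹ * t⁻¹) * (t * f * t⁻¹) by group,
        D.pi_mul (htq (inv_mem hq')) (conj_mem' (mem_normP t) hfP), ha _ (inv_mem hq'), D.qc_inv hq', e, htf]
      funext i
      simp only [Pi.add_apply, Pi.sub_apply, Pi.neg_apply, Pi.zero_apply]
      linear_combination -(D.pi u' i) * D.h3
    have hfix : ∀ q ∈ 𝐐, D.pi (c''⁻¹ * q * c''⁻¹⁻¹) = 0 := by
      intro q hq
      have hP : c''⁻¹ * q * c''⁻¹⁻¹ ∈ 𝐏 := conj_mem' (mem_normP _) (D.Q_le hq)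
      refine eq_zero_of_det2 fun y => ?_
      obtain ⟨q₂, hq₂, rfl⟩ := D.qc_surj y
      rw [det2_swap, D.det_eq_zero_of_comm hq₂ hP ?_, neg_zero]
      have h := D.comm_ker hq (conj_mem' (mem_normP c'') (D.Q_le hq₂)) (horth q₂ hq₂)
      have h' := inv_mem (conj_mem' (centralizer_le_normalizer _ (inv_mem hc''C)) h)
      rw [conj_commutator, commutatorElement_inv,
        show c''⁻¹ * (c'' * q₂ * c''⁻¹) * c''⁻¹⁻¹ = q₂ by group] at h'
      exact h'
    refine D.false_of_act (k := ei * (c'' * ei⁻¹ * c''⁻¹)) (h := iMat) ?_ iMat_not_scalar fun y => ?_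
    · rw [show ei * (c'' * ei⁻¹ * c''⁻¹) = (ei * c'' * ei⁻¹) * c''⁻¹ by group]
      exact mul_mem (conj_mem' (normX_le_C (normE_le_X (le_normalizer hei))) hc''C) (inv_mem hc''C)
    · have hP : c''⁻¹ * D.qlift y * c''⁻¹⁻¹ ∈ 𝐏 := conj_mem' (mem_normP _) (D.Q_le (D.qlift_mem y))
      have h := D.mk_conj_E_of_pi (inv_mem hei) hP (hfix _ (D.qlift_mem y))
      rw [← hsi, ← D.mk_conj_E_jv hei, jv]
      simp only [map_mul, map_inv, inv_inv] at h ⊢
      calc _ = π₀ ei * (π₀ c'' * ((π₀ ei)⁻¹ * ((π₀ c'')⁻¹ * π₀ (D.qlift y) * π₀ c'') * π₀ ei) *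
            (π₀ c'')⁻¹) * (π₀ ei)⁻¹ := by group
        _ = _ := by rw [h]; group
  -- the map on pairs
  set J := D.jv with hJ
  let r : (Fin 2 → F) → G := fun y => t * D.qlift y * t⁻¹ * D.qlift (-(a • y))
  let R : (Fin 2 → F) → G ⧸ omegaOneCenter 3 (pCore 3 G) := fun y => π₀ (r y)
  have hrU : ∀ y, r y ∈ 𝐔 := fun y =>
    mul_mem (conj_mem' htU (Q_le_U (D.qlift_mem y))) (Q_le_U (D.qlift_mem _))
  have hrpi : ∀ y, D.pi (r y) = 0 := fun y => by
    rw [D.pi_mul (D.U_le_P (conj_mem' htU (Q_le_U (D.qlift_mem y)))) (D.Q_le (D.qlift_mem _)),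
      ha _ (D.qlift_mem y), D.pi_qlift, D.qc_qlift, add_neg_cancel]
  have hcm : ∀ {u v}, u ∈ 𝐔 → v ∈ 𝐔 → π₀ u * π₀ v = π₀ v * π₀ u := fun hu hv =>
    D.mk_comm hu (D.U_le_P hv)
  set tb := π₀ t with htb
  have hJR : ∀ y z, J y * R z = R z * J y := fun y z => hcm (Q_le_U (D.qlift_mem y)) (hrU z)
  have h3 : ∀ y, tb * J y * tb⁻¹ = J (a • y) * R y := fun y => by
    have e : R y = (tb * J y * tb⁻¹) * J (-(a • y)) := by
      show π₀ (r y) = _
      simp only [r, map_mul, map_inv]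
      rfl
    rw [hJR, e, mul_assoc (tb * J y * tb⁻¹), hJ, ← D.jv_add, neg_add_cancel, D.jv_zero, mul_one]
  have htb2 : ∀ x, tb * (tb * x * tb⁻¹) * tb⁻¹ = x := fun x => by
    have h : tb * tb = 1 := by rw [htb, ← map_mul, htt, map_one]
    rw [show tb * (tb * x * tb⁻¹) * tb⁻¹ = (tb * tb) * x * (tb * tb)⁻¹ by group, h]; group
  have h4 : ∀ y, tb * R y * tb⁻¹ = J ((1 - a * a) • y) * R (-(a • y)) := fun y => by
    have e : R y = (J (a • y))⁻¹ * (tb * J y * tb⁻¹) := by rw [h3, inv_mul_cancel_left]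
    rw [e, hJ, ← D.jv_neg, show tb * (D.jv (-(a • y)) * (tb * D.jv y * tb⁻¹)) * tb⁻¹ =
      (tb * D.jv (-(a • y)) * tb⁻¹) * (tb * (tb * D.jv y * tb⁻¹) * tb⁻¹) by group, htb2, h3, mul_assoc,
      ← hJ, ← hJR, ← mul_assoc]
    congr 1
    rw [hJ, ← D.jv_add]
    congr 1
    module
  have hRadd : ∀ y z, R (y + z) = R y * R z := fun y z => by
    have e : ∀ y, R y = (J (a • y))⁻¹ * (tb * J y * tb⁻¹) := fun y => by rw [h3, inv_mul_cancel_left]
    rw [e (y + z), smul_add, hJ, D.jv_add, D.jv_add, conj_mul.symm, mul_inv_rev, ← hJ, h3, h3]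
    have c1 := hJR (a • z) (y)
    calc (J (a • z))⁻¹ * (J (a • y))⁻¹ * (J (a • y) * R y * (J (a • z) * R z))
        = (J (a • z))⁻¹ * (R y * J (a • z)) * R z := by group
      _ = R y * R z := by rw [← c1]; group
  -- the action of the elements `e τ τ' e⁻¹`
  have hx : ∀ e ∈ E, ∀ y w,
      π₀ (e * (D.τ * t) * e⁻¹) * (J y * R w) * (π₀ (e * (D.τ * t) * e⁻¹))⁻¹ =
        J (-(a • y) + (a * a - 1) • act (D.s e) w) * R (act (D.s e)⁻¹ y - a • w) := by
    intro e he y w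
    have heR : ∀ z, π₀ e * R z * (π₀ e)⁻¹ = R z := fun z =>
      D.mk_conj_E_of_pi he (D.U_le_P (hrU z)) (hrpi z)
    have heR' : ∀ z, (π₀ e)⁻¹ * R z * π₀ e = R z := fun z => by
      conv_lhs => rw [← heR z]
      group
    have hτR : ∀ z, π₀ D.τ * R z * (π₀ D.τ)⁻¹ = R z := fun z =>
      D.mk_conj_E_of_pi D.τ_mem (D.U_le_P (hrU z)) (hrpi z)
    have hτJ : ∀ z, π₀ D.τ * J z * (π₀ D.τ)⁻¹ = J (-z) := fun z => by
      rw [hJ, D.jv_neg]; exact D.mk_conj_τ_Q (D.qlift_mem z)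
    have heJ : ∀ z, (π₀ e)⁻¹ * J z * π₀ e = J (act (D.s e)⁻¹ z) := fun z => by
      rw [hJ, ← D.s_inv he, ← D.mk_conj_E_jv (inv_mem he), map_inv, inv_inv]
    rw [map_mul, map_mul, map_inv, map_mul, ← htb]
    calc π₀ e * (π₀ D.τ * tb) * (π₀ e)⁻¹ * (J y * R w) * (π₀ e * (π₀ D.τ * tb) * (π₀ e)⁻¹)⁻¹
        = π₀ e * (π₀ D.τ * ((tb * ((π₀ e)⁻¹ * J y * π₀ e) * tb⁻¹) *
            (tb * ((π₀ e)⁻¹ * R w * π₀ e) * tb⁻¹)) * (π₀ D.τ)⁻¹) * (π₀ e)⁻¹ := by group
      _ = π₀ e * (π₀ D.τ * ((J (a • act (D.s e)⁻¹ y) * R (act (D.s e)⁻¹ y)) *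
            (J ((1 - a * a) • w) * R (-(a • w)))) * (π₀ D.τ)⁻¹) * (π₀ e)⁻¹ := by
          rw [heJ, heR', h3, h4]
      _ = π₀ e * (π₀ D.τ * ((J (a • act (D.s e)⁻¹ y) * J ((1 - a * a) • w)) *
            (R (act (D.s e)⁻¹ y) * R (-(a • w)))) * (π₀ D.τ)⁻¹) * (π₀ e)⁻¹ := by
          rw [mul_assoc (J (a • act (D.s e)⁻¹ y)), ← mul_assoc (R (act (D.s e)⁻¹ y)) (J ((1 - a * a) • w)),
            ← hJR]
          group
      _ = π₀ e * ((π₀ D.τ * J (a • act (D.s e)⁻¹ y + (1 - a * a) • w) * (π₀ D.τ)⁻¹) *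
            (π₀ D.τ * R (act (D.s e)⁻¹ y - a • w) * (π₀ D.τ)⁻¹)) * (π₀ e)⁻¹ := by
          rw [← hRadd, hJ, ← D.jv_add, sub_eq_add_neg]; group
      _ = (π₀ e * J (-(a • act (D.s e)⁻¹ y + (1 - a * a) • w)) * (π₀ e)⁻¹) *
            (π₀ e * R (act (D.s e)⁻¹ y - a • w) * (π₀ e)⁻¹) := by rw [hτJ, hτR]; group
      _ = J (act (D.s e) (-(a • act (D.s e)⁻¹ y + (1 - a * a) • w))) *
            R (act (D.s e)⁻¹ y - a • w) := by rw [hJ, D.mk_conj_E_jv he, heR]
      _ = _ := by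
          congr 2
          rw [act_neg, act_add, act_smul, act_smul, ← act_mul, mul_inv_cancel, act_one]
          module
  have hxC : ∀ e ∈ E, e * (D.τ * t) * e⁻¹ ∈ 𝐂 := fun e he =>
    conj_mem' (normX_le_C (normE_le_X (le_normalizer he))) htC
  have hR0 : R 0 = 1 := by
    have h := hRadd 0 0
    rw [add_zero] at h
    exact left_eq_mul.1 h
  have hy0 : ∀ y, J y * R 0 = J y := fun y => by rw [hR0, mul_one]
  have hx1 : ∀ y, π₀ (D.τ * t) * J y * (π₀ (D.τ * t))⁻¹ = J (-(a • y)) * R y := fun y => by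
    have h := hx 1 E.one_mem y 0
    simpa only [one_mul, inv_one, mul_one, hy0, D.s_one, act_one, smul_zero, add_zero, sub_zero] using h
  by_cases h0 : a = 0
  · -- `a = 0`
    obtain ⟨e, he, hse⟩ := D.s_surj (-iMat : SL(2, F)) (by
      rw [← neg_one_mul]; exact mul_mem (neg_one_mem D.h3) (iMat_mem D.h3))
    refine D.false_of_act (k := e * (D.τ * t) * e⁻¹ * (D.τ * t)) (h := iMat) (mul_mem (hxC e he) htC)
      iMat_not_scalar fun y => ?_
    subst h0
    rw [map_mul, mul_inv_rev, ← hJ]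
    calc _ = π₀ (e * (D.τ * t) * e⁻¹) * (π₀ (D.τ * t) * J y * (π₀ (D.τ * t))⁻¹) *
          (π₀ (e * (D.τ * t) * e⁻¹))⁻¹ := by group
      _ = _ := by
        rw [hx1, hx e he, hse]
        simp only [zero_smul, neg_zero, zero_add, mul_zero, zero_sub, neg_smul, one_smul, sub_zero]
        rw [show act (-iMat : SL(2, F))⁻¹ (0 : Fin 2 → F) = 0 by funext i; simp [act_apply], hy0]
        congr 1
        funext i; simp [act_apply]; ring
  -- the general case
  have ha1 : a ^ 2 ≠ 1 := fun h => (sq_eq_one_iff.1 h).elim h1 hne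
  obtain ⟨h, l, h', hh', hA1, hA2⟩ := exists_triple D.h3 h0 ha1
  have htop := perfect_of_ne h0 ha1
  obtain ⟨eh, heh, hseh⟩ := D.s_surj h (htop ▸ trivial)
  obtain ⟨el, hel, hsel⟩ := D.s_surj l (htop ▸ trivial)
  refine D.false_of_act (k := el * (D.τ * t) * el⁻¹ * (eh * (D.τ * t) * eh⁻¹) * (D.τ * t)) (h := h')
    (mul_mem (mul_mem (hxC el hel) (hxC eh heh)) htC) hh' fun y => ?_
  rw [map_mul, map_mul (QuotientGroup.mk' (omegaOneCenter 3 (pCore 3 G))), mul_inv_rev, mul_inv_rev, ← hJ]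
  calc _ = π₀ (el * (D.τ * t) * el⁻¹) * (π₀ (eh * (D.τ * t) * eh⁻¹) *
        (π₀ (D.τ * t) * J y * (π₀ (D.τ * t))⁻¹) * (π₀ (eh * (D.τ * t) * eh⁻¹))⁻¹) *
        (π₀ (el * (D.τ * t) * el⁻¹))⁻¹ := by group
    _ = J (act h' y) * R 0 := by
      rw [hx1, hx eh heh, hx el hel, hseh, hsel]
      set q := act h⁻¹ y + y with hq
      have e1 : -(a • -(a • y)) + (a * a - 1) • act h y = a ^ 2 • y + (a ^ 2 - 1) • act h y := by module
      have e2 : act h⁻¹ (-(a • y)) - a • y = -(a • q) := by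
        rw [act_neg, act_smul, hq]; module
      rw [e1, e2]
      congr 2
      · rw [← hA2 y, ← hq, act_neg, act_smul]; module
      · rw [← hA1 y, ← hq]; module
    _ = _ := hy0 _

end Exc

end Cfsg.Agent.LAE62
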