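import Cfsg.Agent.PushUp62.Common
import Cfsg.Agent.LAE65.BlockCenter

/-!
Stabilisers of chains in a group of characteristic `p`, and the blocks they normalise.
-/

set_option autoImplicit false
set_option linter.unusedSectionVars false
set_option linter.unusedVariables false
set_option linter.style.haveILetI false

open Subgroup Cfsg
open scoped commutatorElement
open Cfsg.Agent.PushUp62 (centMod mem_centMod commute_of_stabilizes commutator_mem_symm
  conj_commutator le_normalizer_of_conj)

namespace Cfsg.Agent.LAE62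

variable {G : Type*} [Group G]

/-- The stabiliser of a chain of sections. -/
def stab : List (Subgroup G) → Subgroup G
  | [] => ⊤
  | [_] => ⊤
  | A :: B :: l => centMod A B ⊓ stab (B :: l)

theorem mem_stab_cons {g : G} {A B : Subgroup G} {l : List (Subgroup G)} :
    g ∈ stab (A :: B :: l) ↔
      (g ∈ normalizer (B : Set G) ∧ ∀ x ∈ A, ⁅g, x⁆ ∈ B) ∧ g ∈ stab (B :: l) := Iff.rfl

@[simp] theorem mem_stab_single {g : G} {A : Subgroup G} : g ∈ stab [A] := trivial

theorem normalizer_bot_eq_top : normalizer ((⊥ : Subgroup G) : Set G) = ⊤ := normalizer_eq_top _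

variable [Finite G]

theorem mem_normalizer_centMod {c : G} {A B : Subgroup G} (hA : c ∈ normalizer (A : Set G))
    (hB : c ∈ normalizer (B : Set G)) : c ∈ normalizer (centMod A B : Set G) := by
  refine LocalEven62.mem_normalizer_of_conj_mem fun g hg => ?_
  refine ⟨mul_mem (mul_mem hB hg.1) (inv_mem hB), fun x hx => ?_⟩
  have h1 := hg.2 (c⁻¹ * x * c) (by
    simpa using ((mem_normalizer_iff.1 (inv_mem hA)) x).1 hx)
  have h2 := ((mem_normalizer_iff.1 hB) _).1 h1
  rw [conj_commutator] at h2
  simpa [mul_assoc] using h2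

theorem mem_normalizer_stab {c : G} : ∀ {l : List (Subgroup G)},
    (∀ A ∈ l, c ∈ normalizer (A : Set G)) → c ∈ normalizer (stab l : Set G)
  | [], _ => by
      show c ∈ normalizer ((⊤ : Subgroup G) : Set G)
      rw [normalizer_eq_top]; trivial
  | [_], _ => by
      show c ∈ normalizer ((⊤ : Subgroup G) : Set G)
      rw [normalizer_eq_top]; trivial
  | A :: B :: l, h => by
    have h1 := mem_normalizer_centMod (h A List.mem_cons_self) (h B (by simp))
    have h2 := mem_normalizer_stab (c := c) (l := B :: l) fun X hX => h X (List.mem_cons_of_mem _ hX)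
    refine LocalEven62.mem_normalizer_of_conj_mem fun g hg => ⟨?_, ?_⟩
    · exact ((mem_normalizer_iff.1 h1) g).1 hg.1
    · exact ((mem_normalizer_iff.1 h2) g).1 hg.2

/-- A commutator centralises a section centralised by one entry and normalised by both. -/
theorem comm_mem_centMod {c e : G} {A B : Subgroup G} (hA : c ∈ normalizer (A : Set G))
    (hB : c ∈ normalizer (B : Set G)) (he : e ∈ centMod A B) : ⁅c, e⁆ ∈ centMod A B := by
  rw [commutatorElement_def]
  exact mul_mem (((mem_normalizer_iff.1 (mem_normalizer_centMod hA hB)) e).1 he) (inv_mem he)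

theorem comm_mem_centMod' {c e : G} {A B : Subgroup G} (hA : e ∈ normalizer (A : Set G))
    (hB : e ∈ normalizer (B : Set G)) (hc : c ∈ centMod A B) : ⁅c, e⁆ ∈ centMod A B := by
  rw [← commutatorElement_inv]
  exact inv_mem (comm_mem_centMod hA hB hc)

variable {p : ℕ} [hp : Fact p.Prime]

theorem isPGroup_of_coprime_trivial {K : Subgroup G}
    (h : ∀ g ∈ K, (orderOf g).Coprime p → g = 1) : IsPGroup p ↥K := by
  intro ⟨g, hg⟩
  obtain ⟨a, m, hm, e⟩ := Nat.exists_eq_pow_mul_and_not_dvd (orderOf_pos g).ne' p hp.out.ne_one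
  refine ⟨a, Subtype.ext (h (g ^ p ^ a) (K.pow_mem hg _) ?_)⟩
  rw [orderOf_pow' g (pow_ne_zero _ hp.out.ne_zero), e, Nat.gcd_mul_right_left,
    Nat.mul_div_cancel_left _ (pow_pos hp.out.pos _)]
  exact ((hp.out.coprime_iff_not_dvd).2 hm).symm

theorem stab_commute {g : G} {n : ℕ} (hn : g ^ n = 1) (hcop : n.Coprime p) :
    ∀ {l : List (Subgroup G)}, (∀ A ∈ l, IsPGroup p ↥A) → l.getLast? = some ⊥ → g ∈ stab l →
      ∀ A, l.head? = some A → ∀ x ∈ A, g * x = x * g
  | [], _, _, _, A, hA, _, _ => by simp at hA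
  | [B], _, hlast, _, A, hA, x, hx => by
    simp at hlast hA
    rw [← hA, hlast, mem_bot] at hx
    simp [hx]
  | A₀ :: B :: l, hp', hlast, hg, A, hA, x, hx => by
    simp at hA; subst hA
    have hB := stab_commute hn hcop (l := B :: l) (fun X hX => hp' X (List.mem_cons_of_mem _ hX))
      (by rwa [List.getLast?_cons_cons] at hlast) hg.2 B rfl
    exact commute_of_stabilizes (hp' B (by simp)) hB hn hcop (hg.1.2 x hx)

/-- The stabiliser of a chain from `O_p(G)` to the trivial group is a `p`-group. -/
theorem isPGroup_stab (hG : centralizer (pCore p G : Set G) ≤ pCore p G)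
    {l : List (Subgroup G)} (hl : ∀ A ∈ l, A ≤ pCore p G) (hlast : l.getLast? = some ⊥)
    (hhead : l.head? = some (pCore p G)) : IsPGroup p ↥(stab l) := by
  have hP : IsPGroup p ↥(pCore p G) := Thompson.isPGroup_pCore
  refine isPGroup_of_coprime_trivial fun g hg hcop => ?_
  have hc : g ∈ centralizer (pCore p G : Set G) := mem_centralizer_iff.2 fun x hx =>
    (stab_commute (pow_orderOf_eq_one g) hcop (fun A hA => hP.to_le (hl A hA)) hlast hg _ hhead x hx).symm
  obtain ⟨i, hi⟩ := hP ⟨g, hG hc⟩
  have h2 := pow_gcd_eq_one.2 ⟨pow_orderOf_eq_one g,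
    show g ^ p ^ i = 1 by simpa using congrArg Subtype.val hi⟩
  rwa [(Nat.Coprime.pow_right i hcop).gcd_eq_one, pow_one] at h2

variable {T : Sylow p G} {E : Subgroup G}

/-- The stabiliser of a chain normalised by the block data normalises the block. -/
theorem stab_le_normalizer (hG : centralizer (pCore p G : Set G) ≤ pCore p G)
    (hE : IsBaumannBlock p (T : Subgroup G) E) {l : List (Subgroup G)}
    (hl : ∀ A ∈ l, A ≤ pCore p G) (hlast : l.getLast? = some ⊥)
    (hhead : l.head? = some (pCore p G))
    (hEl : ∀ A ∈ l, E ≤ normalizer (A : Set G))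
    (hBl : ∀ A ∈ l, baumannSubgroupOf p (T : Subgroup G) ≤ normalizer (A : Set G)) :
    stab l ≤ normalizer (E : Set G) :=
  LAE65.Block.block_normalized hE (isPGroup_stab hG hl hlast hhead)
    (fun b hb => mem_normalizer_stab fun A hA => hBl A hA hb)
    (fun e he => mem_normalizer_stab fun A hA => hEl A hA he)

/-- If all commutators of `c` with `E` stabilise such a chain, `c` normalises `E`. -/
theorem mem_normalizer_of_comm (hG : centralizer (pCore p G : Set G) ≤ pCore p G)
    (hE : IsBaumannBlock p (T : Subgroup G) E) {l : List (Subgroup G)}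
    (hl : ∀ A ∈ l, A ≤ pCore p G) (hlast : l.getLast? = some ⊥)
    (hhead : l.head? = some (pCore p G))
    (hEl : ∀ A ∈ l, E ≤ normalizer (A : Set G))
    (hBl : ∀ A ∈ l, baumannSubgroupOf p (T : Subgroup G) ≤ normalizer (A : Set G))
    {c : G} (hc : ∀ e ∈ E, ⁅c, e⁆ ∈ stab l) : c ∈ normalizer (E : Set G) := by
  have hle : E ≤ E.comap (MulAut.conj c).toMonoidHom := by
    refine LAE65.Block.le_of_coprime hE.1 fun y hy hyp => ?_
    refine LAE65.Block.mem_of_coprime_mem_sup (isPGroup_stab hG hl hlast hhead)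
      (stab_le_normalizer hG hE hl hlast hhead hEl hBl) (x := c * y * c⁻¹) ?_ ?_
    · rw [show c * y * c⁻¹ = ⁅c, y⁆ * y by rw [commutatorElement_def]; group]
      exact mul_mem (mem_sup_right (hc y hy)) (mem_sup_left hy)
    · show (orderOf (MulAut.conj c y)).Coprime p
      rwa [MulEquiv.orderOf_eq]
  exact LocalEven62.mem_normalizer_of_conj_mem fun x hx => hle hx

end Cfsg.Agent.LAE62
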